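import Mathlib

set_option autoImplicit false

namespace Cfsg.Agent.H77.Fpf

open MonoidHom

section Iterate

variable {G : Type*} [Group G]

/-- If `φ^r = 1` with `r` prime and `φ` is fixed-point-free, so is `φ^i` for `0 < i < r`. -/
theorem fpf_iterate (φ : G →* G) (hφ : FixedPointFree φ) {r : ℕ} (hr : r.Prime)
    (hφr : ∀ g, φ^[r] g = g) {i : ℕ} (hi0 : 0 < i) (hir : i < r) (g : G) (hg : φ^[i] g = g) :
    g = 1 := by
  apply hφ
  have h1 : Function.IsPeriodicPt φ i g := hg
  have h2 : Function.IsPeriodicPt φ r g := hφr g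
  have h3 := h1.gcd h2
  have hcop : Nat.gcd i r = 1 :=
    Nat.Coprime.symm ((Nat.Prime.coprime_iff_not_dvd hr).mpr (Nat.not_dvd_of_pos_of_lt hi0 hir))
  rw [hcop] at h3
  exact h3

end Iterate

section Norm

variable {A : Type*} [CommGroup A] (φ : A →* A)

/-- The partial norm `a ↦ a · φ(a) ⋯ φ^{i-1}(a)`. -/
def pnorm (i : ℕ) (a : A) : A := ((List.range i).map (fun k => φ^[k] a)).prod

theorem pnorm_zero (a : A) : pnorm φ 0 a = 1 := by simp [pnorm]

theorem pnorm_succ (i : ℕ) (a : A) : pnorm φ (i + 1) a = pnorm φ i a * φ^[i] a := by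
  simp [pnorm, List.range_succ]

theorem pnorm_comm (i : ℕ) (a : A) : pnorm φ i (a / φ a) = a / φ^[i] a := by
  induction i with
  | zero => simp [pnorm]
  | succ i ih =>
    rw [pnorm_succ, ih]
    have : φ^[i] (a / φ a) = φ^[i] a / φ^[i + 1] a := by
      rw [iterate_map_div, ← Function.iterate_succ_apply]
    rw [this, div_mul_div_cancel]

theorem pnorm_injective [Finite A] (hφ : FixedPointFree φ) {r : ℕ} (hr : r.Prime)
    (hφr : ∀ g, φ^[r] g = g) {i : ℕ} (hi0 : 0 < i) (hir : i < r) :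
    Function.Injective (pnorm φ i) := by
  intro x y hxy
  obtain ⟨a, rfl⟩ := hφ.commutatorMap_surjective x
  obtain ⟨b, rfl⟩ := hφ.commutatorMap_surjective y
  simp only [commutatorMap_apply] at hxy ⊢
  rw [pnorm_comm, pnorm_comm] at hxy
  have hab : a = b := by
    have h : φ^[i] (b⁻¹ * a) = b⁻¹ * a := by
      rw [iterate_map_mul, iterate_map_inv]
      have h' := div_eq_div_iff_mul_eq_mul.mp hxy
      have h'' : φ^[i] a = b⁻¹ * a * φ^[i] b := by
        rw [mul_assoc, h', inv_mul_cancel_left]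
      rw [h'', mul_comm, mul_inv_cancel_right]
    have := fpf_iterate φ hφ hr hφr hi0 hir _ h
    exact (inv_mul_eq_one.mp this).symm
  rw [hab]

end Norm

theorem end_mul_apply {V : Type*} [AddCommGroup V] (f g : AddMonoid.End V) (v : V) :
    (f * g) v = f (g v) := rfl

/-- **Module lemma.** Let `φ` be a fixed-point-free endomorphism of the finite abelian group `A`
with `φ^r = 1`, `r` prime. Let `A` act on the abelian group `V` (via `ρ`) and let `Φ` be an
endomorphism of `V` with `Φ^r = 1`, compatible with `φ`. If `Φ` and `A` both have no nonzero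
fixed points on `V` and `V` has no `|A|`-torsion, then `V = 0`. -/
theorem module_lemma {A V : Type*} [CommGroup A] [Finite A] [AddCommGroup V]
    (φ : A →* A) (hφ : FixedPointFree φ) {r : ℕ} (hr : r.Prime) (hφr : ∀ a, φ^[r] a = a)
    (ρ : A →* AddMonoid.End V) (Φ : AddMonoid.End V) (hΦr : Φ ^ r = 1)
    (hcomm : ∀ a, Φ * ρ a = ρ (φ a) * Φ)
    (hfixΦ : ∀ v, Φ v = v → v = 0)
    (hfixA : ∀ v, (∀ a, ρ a v = v) → v = 0)
    (htors : ∀ v : V, Nat.card A • v = 0 → v = 0) (v : V) : v = 0 := by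
  classical
  have : Fintype A := Fintype.ofFinite A
  have h1 : ∀ (i : ℕ) (a : A), Φ ^ i * ρ a = ρ (φ^[i] a) * Φ ^ i := by
    intro i
    induction i with
    | zero => intro a; simp
    | succ i ih =>
      intro a
      calc Φ ^ (i + 1) * ρ a = Φ ^ i * (Φ * ρ a) := by rw [pow_succ, mul_assoc]
        _ = (Φ ^ i * ρ (φ a)) * Φ := by rw [hcomm, mul_assoc]
        _ = ρ (φ^[i] (φ a)) * (Φ ^ i * Φ) := by rw [ih, mul_assoc]
        _ = ρ (φ^[i + 1] a) * Φ ^ (i + 1) := by rw [← pow_succ, Function.iterate_succ_apply]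
  have h2 : ∀ (i : ℕ) (a : A), (ρ a * Φ) ^ i = ρ (pnorm φ i a) * Φ ^ i := by
    intro i a
    induction i with
    | zero => simp [pnorm_zero]
    | succ i ih =>
      calc (ρ a * Φ) ^ (i + 1) = ρ (pnorm φ i a) * (Φ ^ i * ρ a) * Φ := by
            rw [pow_succ, ih]; simp only [mul_assoc]
        _ = ρ (pnorm φ i a) * (ρ (φ^[i] a) * Φ ^ i) * Φ := by rw [h1]
        _ = ρ (pnorm φ (i + 1) a) * Φ ^ (i + 1) := by
            rw [pnorm_succ, map_mul, pow_succ]; simp only [mul_assoc]
  have h3 : ∀ a, (ρ a * Φ) ^ r = 1 := by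
    intro a
    rw [h2, hΦr, mul_one]
    have : pnorm φ r a = 1 := hφ.prod_pow_eq_one (funext hφr) a
    rw [this, map_one]
  have h4 : ∀ a v, (ρ a * Φ) v = v → v = 0 := by
    intro a v hv
    obtain ⟨b, rfl⟩ := hφ.commutatorMap_surjective a
    have hv' : ρ (b / φ b) (Φ v) = v := hv
    have key : Φ (ρ b⁻¹ v) = ρ b⁻¹ v := by
      have e1 : Φ (ρ b⁻¹ v) = ρ (φ b⁻¹) (Φ v) := by
        have := congrArg (fun f : AddMonoid.End V => f v) (hcomm b⁻¹)
        simpa using this
      rw [e1]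
      calc ρ (φ b⁻¹) (Φ v) = ρ (b⁻¹ * (b / φ b)) (Φ v) := by
            rw [map_inv, div_eq_mul_inv, inv_mul_cancel_left]
        _ = ρ b⁻¹ (ρ (b / φ b) (Φ v)) := by rw [map_mul]; rfl
        _ = ρ b⁻¹ v := by rw [hv']
    have h0 := hfixΦ _ key
    have e2 : v = ρ b (ρ b⁻¹ v) := by
      calc v = ρ (b * b⁻¹) v := by rw [mul_inv_cancel, map_one]; rfl
        _ = ρ b (ρ b⁻¹ v) := by rw [map_mul]; rfl
    rw [e2, h0, map_zero]
  have h5 : ∀ a, ∑ i ∈ Finset.range r, (ρ a * Φ) ^ i = 0 := by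
    intro a
    set x := ρ a * Φ with hx
    have hxS : x * ∑ i ∈ Finset.range r, x ^ i = ∑ i ∈ Finset.range r, x ^ i := by
      rw [Finset.mul_sum]
      have e1 : ∑ i ∈ Finset.range r, x * x ^ i = ∑ i ∈ Finset.range r, x ^ (i + 1) := by
        apply Finset.sum_congr rfl; intro i _; rw [pow_succ']
      rw [e1]
      have e2 := Finset.sum_range_succ (fun i => x ^ i) r
      have e3 := Finset.sum_range_succ' (fun i => x ^ i) r
      rw [e2, h3 a, pow_zero] at e3
      exact (add_right_cancel e3).symm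
    ext v
    apply h4 a
    exact congrArg (fun f : AddMonoid.End V => f v) hxS
  have h6 : ∑ a : A, ρ a = 0 := by
    ext v
    apply hfixA
    intro b
    have hb : ρ b * ∑ a : A, ρ a = ∑ a : A, ρ a := by
      rw [Finset.mul_sum]
      simp_rw [← map_mul]
      exact Fintype.sum_equiv (Equiv.mulLeft b) _ _ (fun a => rfl)
    have := congrArg (fun f : AddMonoid.End V => f v) hb
    simpa using this
  have h7 : ∀ i, 0 < i → i < r → ∑ a : A, ρ (pnorm φ i a) = 0 := by
    intro i hi0 hir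
    have hbij : Function.Bijective (pnorm φ i) :=
      Finite.injective_iff_bijective.mp (pnorm_injective φ hφ hr hφr hi0 hir)
    rw [← h6]
    exact Fintype.sum_bijective (pnorm φ i) hbij _ _ (fun a => rfl)
  have h8 : (Fintype.card A : AddMonoid.End V) = 0 := by
    have hsum : ∑ a : A, ∑ i ∈ Finset.range r, (ρ a * Φ) ^ i = 0 :=
      Finset.sum_eq_zero (fun a _ => h5 a)
    rw [Finset.sum_comm] at hsum
    simp_rw [h2, ← Finset.sum_mul] at hsum
    rw [Finset.sum_eq_single_of_mem 0 (Finset.mem_range.mpr hr.pos) (fun i hi hi0 => by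
      rw [h7 i (Nat.pos_of_ne_zero hi0) (Finset.mem_range.mp hi), zero_mul])] at hsum
    simpa [pnorm_zero] using hsum
  apply htors
  have := congrArg (fun f : AddMonoid.End V => f v) h8
  simpa [Nat.card_eq_fintype_card] using this

end Cfsg.Agent.H77.Fpf
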