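import Mathlib
import Cfsg.Agent.H77.FpfModule

set_option autoImplicit false

namespace Cfsg.Agent.H77.Fpf

open MonoidHom

/-- Multiplicative form of `module_lemma`, with unbundled data. -/
theorem module_lemma_mul {A V : Type*} [Group A] [Finite A] [Group V]
    (hA : ∀ a b : A, a * b = b * a) (hV : ∀ v w : V, v * w = w * v)
    (φ : A →* A) (hφ : FixedPointFree φ) {r : ℕ} (hr : r.Prime) (hφr : ∀ a, φ^[r] a = a)
    (ρ : A → V → V) (hρ1 : ∀ v, ρ 1 v = v) (hρmul : ∀ a b v, ρ (a * b) v = ρ a (ρ b v))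
    (hρhom : ∀ a v w, ρ a (v * w) = ρ a v * ρ a w)
    (Φ : V → V) (hΦhom : ∀ v w, Φ (v * w) = Φ v * Φ w) (hΦr : ∀ v, Φ^[r] v = v)
    (hcomm : ∀ a v, Φ (ρ a v) = ρ (φ a) (Φ v))
    (hfixΦ : ∀ v, Φ v = v → v = 1)
    (hfixA : ∀ v, (∀ a, ρ a v = v) → v = 1)
    (htors : ∀ v : V, v ^ Nat.card A = 1 → v = 1) (v : V) : v = 1 := by
  let _ : CommGroup A := { ‹Group A› with mul_comm := hA }
  let _ : CommGroup V := { ‹Group V› with mul_comm := hV }
  let mk : (f : V → V) → (∀ v w, f (v * w) = f v * f w) → AddMonoid.End (Additive V) :=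
    fun f hf => AddMonoidHom.mk' (fun x => Additive.ofMul (f x.toMul)) (fun x y => hf _ _)
  let ρ' : A →* AddMonoid.End (Additive V) :=
    { toFun := fun a => mk (ρ a) (hρhom a)
      map_one' := by ext x; exact hρ1 _
      map_mul' := fun a b => by ext x; exact hρmul a b _ }
  have hpow : ∀ (k : ℕ) (x : Additive V), (mk Φ hΦhom ^ k) x = Additive.ofMul (Φ^[k] x.toMul) := by
    intro k
    induction k with
    | zero => intro x; rfl
    | succ k ih =>
      intro x
      rw [pow_succ, end_mul_apply, ih, Function.iterate_succ_apply]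
      rfl
  have key := module_lemma φ hφ hr hφr ρ' (mk Φ hΦhom)
    (by ext x; rw [hpow, hΦr]; rfl)
    (fun a => by ext x; exact hcomm a _)
    (fun x hx => hfixΦ _ hx)
    (fun x hx => hfixA _ hx)
    (fun x hx => htors _ hx) (Additive.ofMul v)
  exact key

variable {G : Type*} [Group G]

/-- An endomorphism with `φ^r = id` (`r > 0`) is injective. -/
theorem injective_of_iterate (φ : G →* G) {r : ℕ} (hr : 0 < r) (hφr : ∀ g, φ^[r] g = g) :
    Function.Injective φ := by
  intro x y hxy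
  obtain ⟨k, rfl⟩ := Nat.exists_eq_succ_of_ne_zero hr.ne'
  rw [← hφr x, ← hφr y, Function.iterate_succ_apply, Function.iterate_succ_apply, hxy]

/-- An invariant subgroup of a finite group is mapped onto itself by an injective endomorphism. -/
theorem exists_preimage [Finite G] (φ : G →* G) (hinj : Function.Injective φ) (H : Subgroup G)
    (hH : ∀ x ∈ H, φ x ∈ H) {y : G} (hy : y ∈ H) : ∃ x ∈ H, φ x = y := by
  have hsurj : Function.Surjective (fun x : H => (⟨φ x, hH x x.2⟩ : H)) :=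
    Finite.surjective_of_injective (fun _ _ hab => Subtype.ext (hinj (congrArg Subtype.val hab)))
  obtain ⟨x, hx⟩ := hsurj ⟨y, hy⟩
  exact ⟨x, x.2, congrArg Subtype.val hx⟩

theorem mem_of_map_mem [Finite G] (φ : G →* G) (hinj : Function.Injective φ) (H : Subgroup G)
    (hH : ∀ x ∈ H, φ x ∈ H) {x : G} (hx : φ x ∈ H) : x ∈ H := by
  obtain ⟨x', hx', h⟩ := exists_preimage φ hinj H hH hx
  rw [← hinj h]; exact hx'

/-- Restriction of `φ` to an invariant subgroup. -/
def res (φ : G →* G) (H : Subgroup G) (hH : ∀ x ∈ H, φ x ∈ H) : H →* H :=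
  (φ.comp H.subtype).codRestrict H (fun x => hH x x.2)

@[simp] theorem res_coe (φ : G →* G) (H : Subgroup G) (hH : ∀ x ∈ H, φ x ∈ H) (x : H) :
    ((res φ H hH x : H) : G) = φ x := rfl

theorem res_iterate (φ : G →* G) (H : Subgroup G) (hH : ∀ x ∈ H, φ x ∈ H) (k : ℕ) (x : H) :
    (((res φ H hH)^[k] x : H) : G) = φ^[k] x := by
  induction k generalizing x with
  | zero => rfl
  | succ k ih => rw [Function.iterate_succ_apply, ih, Function.iterate_succ_apply]; rfl

theorem res_fpf (φ : G →* G) (H : Subgroup G) (hH : ∀ x ∈ H, φ x ∈ H) (hφ : FixedPointFree φ) :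
    FixedPointFree (res φ H hH) := by
  intro x hx
  exact Subtype.ext (hφ x (congrArg Subtype.val hx))

theorem res_injective (φ : G →* G) (H : Subgroup G) (hH : ∀ x ∈ H, φ x ∈ H)
    (hinj : Function.Injective φ) : Function.Injective (res φ H hH) :=
  fun a b hab => Subtype.ext (hinj (congrArg Subtype.val hab))

/-- The endomorphism induced on the quotient by an invariant normal subgroup. -/
def quo (φ : G →* G) (N : Subgroup G) [N.Normal] (hN : ∀ x ∈ N, φ x ∈ N) : G ⧸ N →* G ⧸ N :=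
  QuotientGroup.map N N φ (fun x hx => hN x hx)

theorem quo_mk (φ : G →* G) (N : Subgroup G) [N.Normal] (hN : ∀ x ∈ N, φ x ∈ N) (x : G) :
    quo φ N hN (x : G ⧸ N) = ((φ x : G) : G ⧸ N) := rfl

theorem quo_iterate (φ : G →* G) (N : Subgroup G) [N.Normal] (hN : ∀ x ∈ N, φ x ∈ N) (k : ℕ)
    (x : G) : (quo φ N hN)^[k] (x : G ⧸ N) = ((φ^[k] x : G) : G ⧸ N) := by
  induction k generalizing x with
  | zero => rfl
  | succ k ih => rw [Function.iterate_succ_apply, quo_mk, ih, Function.iterate_succ_apply]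

theorem quo_fpf [Finite G] (φ : G →* G) (N : Subgroup G) [hNn : N.Normal]
    (hN : ∀ x ∈ N, φ x ∈ N) (hφ : FixedPointFree φ) : FixedPointFree (quo φ N hN) := by
  intro y hy
  obtain ⟨x, rfl⟩ := QuotientGroup.mk_surjective y
  rw [quo_mk, QuotientGroup.eq] at hy
  have h1 : x / φ x ∈ N := by
    have := hNn.conj_mem _ hy (φ x)
    simpa [div_eq_mul_inv] using this
  obtain ⟨n, hn⟩ := (res_fpf φ N hN hφ).commutatorMap_surjective ⟨x / φ x, h1⟩
  have hn' : (n : G) / φ n = x / φ x := congrArg Subtype.val hn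
  have h2 : φ ((n : G)⁻¹ * x) = (n : G)⁻¹ * x := by
    rw [map_mul, map_inv]
    rw [div_eq_mul_inv, div_eq_mul_inv] at hn'
    have : (φ n)⁻¹ = (n : G)⁻¹ * x * (φ x)⁻¹ := by rw [mul_assoc, ← hn', inv_mul_cancel_left]
    rw [this, inv_mul_cancel_right]
  have h3 := hφ _ h2
  have : x = n := by rw [inv_mul_eq_one] at h3; exact h3.symm
  rw [this]; exact (QuotientGroup.eq_one_iff _).mpr n.2

theorem mem_smul_sylow_iff {p : ℕ} (g x : G) (S : Sylow p G) :
    x ∈ ((g • S : Sylow p G) : Subgroup G) ↔ g⁻¹ * x * g ∈ (S : Subgroup G) := by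
  rw [Sylow.coe_subgroup_smul, Subgroup.mem_pointwise_smul_iff_inv_smul_mem]
  simp [MulAut.smul_def]

/-- A fixed-point-free endomorphism of a finite group leaves some Sylow `p`-subgroup invariant. -/
theorem exists_invariant_sylow [Finite G] (φ : G →* G) (hφ : FixedPointFree φ)
    (p : ℕ) [Fact p.Prime] : ∃ P : Sylow p G, ∀ x ∈ (P : Subgroup G), φ x ∈ (P : Subgroup G) := by
  obtain ⟨P₀⟩ : Nonempty (Sylow p G) := inferInstance
  have hQ : IsPGroup p ((P₀ : Subgroup G).map φ) := P₀.isPGroup'.map φ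
  obtain ⟨P', hP'⟩ := hQ.exists_le_sylow
  obtain ⟨g, hg⟩ := MulAction.exists_smul_eq G P₀ P'
  have h1 : ∀ x ∈ (P₀ : Subgroup G), g⁻¹ * φ x * g ∈ (P₀ : Subgroup G) := by
    intro x hx
    have : φ x ∈ (P' : Subgroup G) := hP' (Subgroup.mem_map_of_mem φ hx)
    rw [← hg] at this
    exact (mem_smul_sylow_iff g (φ x) P₀).mp this
  obtain ⟨z, hz⟩ := hφ.commutatorMap_surjective g⁻¹
  rw [commutatorMap_apply] at hz
  refine ⟨z⁻¹ • P₀, fun x hx => ?_⟩
  rw [mem_smul_sylow_iff] at hx ⊢
  have h2 := h1 _ hx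
  have hg' : g = φ z * z⁻¹ := by
    have := congrArg (·⁻¹) hz
    simpa [div_eq_mul_inv] using this.symm
  have e : z⁻¹⁻¹ * φ x * z⁻¹ = g⁻¹ * φ (z⁻¹⁻¹ * x * z⁻¹) * g := by
    rw [hg']
    simp only [map_mul, map_inv, inv_inv, mul_inv_rev]
    group
  rw [e]; exact h2

/-- Characteristic subgroups of invariant subgroups are invariant. -/
theorem char_invariant [Finite G] (φ : G →* G) (hinj : Function.Injective φ) (H : Subgroup G)
    (hH : ∀ x ∈ H, φ x ∈ H) (W : Subgroup H) [hW : W.Characteristic] :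
    ∀ x ∈ W.map H.subtype, φ x ∈ W.map H.subtype := by
  have hbij : Function.Bijective (res φ H hH) :=
    Finite.injective_iff_bijective.mp (res_injective φ H hH hinj)
  let e : H ≃* H := MulEquiv.ofBijective (res φ H hH) hbij
  rintro _ ⟨w, hw, rfl⟩
  have := (Subgroup.characteristic_iff_map_le.mp hW e) (Subgroup.mem_map_of_mem _ hw)
  exact ⟨e w, this, rfl⟩

/-- Characteristic subgroups are invariant. -/
theorem char_invariant_top [Finite G] (φ : G →* G) (hinj : Function.Injective φ)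
    (K : Subgroup G) [hK : K.Characteristic] : ∀ x ∈ K, φ x ∈ K := by
  have hbij : Function.Bijective φ := Finite.injective_iff_bijective.mp hinj
  let e : G ≃* G := MulEquiv.ofBijective φ hbij
  intro x hx
  exact (Subgroup.characteristic_iff_map_le.mp hK e) (Subgroup.mem_map_of_mem _ hx)

/-- The normalizer of an invariant subgroup is invariant. -/
theorem normalizer_invariant [Finite G] (φ : G →* G) (hinj : Function.Injective φ)
    (W : Subgroup G) (hW : ∀ x ∈ W, φ x ∈ W) :
    ∀ g ∈ Subgroup.normalizer (W : Set G), φ g ∈ Subgroup.normalizer (W : Set G) := by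
  intro g hg
  rw [Subgroup.mem_normalizer_iff] at hg ⊢
  intro w
  obtain ⟨w', rfl⟩ := (Finite.injective_iff_bijective.mp hinj).2 w
  have e : φ g * φ w' * (φ g)⁻¹ = φ (g * w' * g⁻¹) := by simp
  rw [e]
  constructor
  · intro h
    exact hW _ ((hg w').mp (mem_of_map_mem φ hinj W hW h))
  · intro h
    exact hW _ ((hg w').mpr (mem_of_map_mem φ hinj W hW h))

/-- The centralizer of an invariant subgroup is invariant. -/
theorem centralizer_invariant [Finite G] (φ : G →* G) (hinj : Function.Injective φ)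
    (W : Subgroup G) (hW : ∀ x ∈ W, φ x ∈ W) :
    ∀ g ∈ Subgroup.centralizer (W : Set G), φ g ∈ Subgroup.centralizer (W : Set G) := by
  intro g hg
  rw [Subgroup.mem_centralizer_iff] at hg ⊢
  intro w hw
  obtain ⟨w', hw', rfl⟩ := exists_preimage φ hinj W hW hw
  rw [← map_mul, ← map_mul, hg w' hw']

end Cfsg.Agent.H77.Fpf
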