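import Mathlib
import Cfsg.Prelude.Def_Transfer
import Cfsg.Agent.H77.FpfBasic
import Cfsg.Agent.H67.PNilp
import Cfsg.Agent.H1.Carter

set_option autoImplicit false

namespace Cfsg.Agent.H77.Fpf

open MonoidHom

universe u

/-- A normal `p`-complement oracle: for every odd prime `p` and nontrivial Sylow `p`-subgroup `P`
there is a nontrivial "characteristic" subgroup `W ≤ P` such that `G` has a normal `p`-complement
as soon as `N_G(W)` has one. -/
def Oracle (G : Type u) [Group G] : Prop :=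
  ∀ (p : ℕ) [Fact p.Prime], p ≠ 2 → ∀ P : Sylow p G, (P : Subgroup G) ≠ ⊥ →
    ∃ W : Subgroup G, W ≠ ⊥ ∧ W ≤ P ∧
      (∀ ψ : G ≃* G, (∀ x ∈ (P : Subgroup G), ψ x ∈ (P : Subgroup G)) → ∀ x ∈ W, ψ x ∈ W) ∧
      (Cfsg.HasNormalPComplement p (Subgroup.normalizer (W : Set G)) →
        Cfsg.HasNormalPComplement p G)

/-- Two-subgroup form of the oracle (covers Thompson's original criterion with `N_G(J(P))` and
`C_G(Z(P))`). -/
def Oracle2 (G : Type u) [Group G] : Prop :=
  ∀ (p : ℕ) [Fact p.Prime], p ≠ 2 → ∀ P : Sylow p G, (P : Subgroup G) ≠ ⊥ →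
    ∃ W₁ W₂ : Subgroup G, W₁ ≠ ⊥ ∧ W₁ ≤ P ∧ W₂ ≠ ⊥ ∧ W₂ ≤ P ∧
      (∀ ψ : G ≃* G, (∀ x ∈ (P : Subgroup G), ψ x ∈ (P : Subgroup G)) →
        (∀ x ∈ W₁, ψ x ∈ W₁) ∧ ∀ x ∈ W₂, ψ x ∈ W₂) ∧
      (Cfsg.HasNormalPComplement p (Subgroup.normalizer (W₁ : Set G)) →
        Cfsg.HasNormalPComplement p (Subgroup.centralizer (W₂ : Set G)) →
        Cfsg.HasNormalPComplement p G)

theorem Oracle.oracle2 {G : Type u} [Group G] (h : Oracle G) : Oracle2 G := by
  intro p _ hp2 P hP
  obtain ⟨W, h1, h2, h3, h4⟩ := h p hp2 P hP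
  exact ⟨W, W, h1, h2, h1, h2, fun ψ hψ => ⟨h3 ψ hψ, h3 ψ hψ⟩, fun hN _ => h4 hN⟩

section General

variable {G : Type u} [Group G] [Finite G]

theorem exists_minimal_subgroup (S : Set (Subgroup G)) (hS : S.Nonempty) :
    ∃ V ∈ S, ∀ V' ∈ S, V' ≤ V → V' = V := by
  classical
  have hex : ∃ k, ∃ V ∈ S, Nat.card V = k := by
    obtain ⟨V, hV⟩ := hS; exact ⟨_, V, hV, rfl⟩
  obtain ⟨V, hV, hk⟩ := Nat.find_spec hex
  refine ⟨V, hV, fun V' hV' hle => ?_⟩
  apply Subgroup.eq_of_le_of_card_ge hle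
  rw [hk]
  exact Nat.find_min' hex ⟨V', hV', rfl⟩

theorem exists_prime_ne_of_not_isPGroup (p : ℕ) [Fact p.Prime] (h : ¬ IsPGroup p G) :
    ∃ q, q.Prime ∧ q ≠ p ∧ q ∣ Nat.card G := by
  by_contra hcon
  push Not at hcon
  apply h
  have hpos : Nat.card G ≠ 0 := Nat.card_pos.ne'
  have := Nat.eq_prime_pow_of_unique_prime_dvd hpos (p := p) (fun {d} hd hdvd => by
    by_contra hne; exact hcon d hd hne hdvd)
  exact IsPGroup.of_card this

theorem hnpc_of_nilpotent (H : Type u) [Group H] [Finite H] [Group.IsNilpotent H] (p : ℕ)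
    [Fact p.Prime] : Cfsg.HasNormalPComplement p H := by
  obtain ⟨Q, hQn, hcop, k, hk⟩ := H1.Carter.exists_normal_pcompl H p
  refine H67.hnpc_iff.mpr ⟨Q, hQn, hcop, fun g => ⟨k, ?_⟩⟩
  have h4 : Nat.card (H ⧸ Q) = p ^ k := by rw [← hk, Subgroup.index_eq_card]
  have h3 : ((g : H ⧸ Q)) ^ (p ^ k) = 1 := by rw [← h4]; exact pow_card_eq_one'
  rw [← QuotientGroup.mk_pow] at h3
  exact (QuotientGroup.eq_one_iff _).mp h3

end General

section Step

variable {G : Type u} [Group G] [Finite G] (φ : G →* G) (hφ : FixedPointFree φ) {r : ℕ}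
  (hφr : ∀ g, φ^[r] g = g)
  (IH : ∀ (H : Type u) [Group H] [Finite H], Nat.card H < Nat.card G → ∀ ψ : H →* H,
    FixedPointFree ψ → (∀ g, ψ^[r] g = g) → Group.IsNilpotent H)

include hφ hφr IH

theorem sub_nilpotent (H : Subgroup G) (hH : ∀ x ∈ H, φ x ∈ H) (hne : H ≠ ⊤) :
    Group.IsNilpotent H := by
  refine IH H ?_ (res φ H hH) (res_fpf φ H hH hφ) (fun g => Subtype.ext ?_)
  · exact lt_of_not_ge (fun h => hne (Subgroup.eq_top_of_le_card H h))
  · rw [res_iterate]; exact hφr g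

theorem quo_nilpotent (N : Subgroup G) [N.Normal] (hN : ∀ x ∈ N, φ x ∈ N) (hne : N ≠ ⊥) :
    Group.IsNilpotent (G ⧸ N) := by
  refine IH (G ⧸ N) ?_ (quo φ N hN) (quo_fpf φ N hN hφ) (fun y => ?_)
  · have h1 := Subgroup.card_eq_card_quotient_mul_card_subgroup N
    have h2 : 1 < Nat.card N := (Subgroup.one_lt_card_iff_ne_bot N).mpr hne
    have h3 : 0 < Nat.card (G ⧸ N) := Nat.card_pos
    rw [h1]; nlinarith
  · obtain ⟨x, rfl⟩ := QuotientGroup.mk_surjective y
    rw [quo_iterate, hφr]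

theorem nilpotent_of_abelian_normal (hr : r.Prime) (V₀ : Subgroup G) (hV₀n : V₀.Normal)
    (hV₀ne : V₀ ≠ ⊥) (hV₀inv : ∀ x ∈ V₀, φ x ∈ V₀) (hV₀ab : ∀ a ∈ V₀, ∀ b ∈ V₀, a * b = b * a) :
    Group.IsNilpotent G := by
  have hinj : Function.Injective φ := injective_of_iterate φ hr.pos hφr
  obtain ⟨V, ⟨hVn, hVne, hVinv, hVab⟩, hmin⟩ := exists_minimal_subgroup
    {V : Subgroup G | V.Normal ∧ V ≠ ⊥ ∧ (∀ x ∈ V, φ x ∈ V) ∧ ∀ a ∈ V, ∀ b ∈ V, a * b = b * a}
    ⟨V₀, hV₀n, hV₀ne, hV₀inv, hV₀ab⟩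
  have hmin' : ∀ V' : Subgroup G, V'.Normal → V' ≠ ⊥ → (∀ x ∈ V', φ x ∈ V') → V' ≤ V → V' = V :=
    fun V' h1 h2 h3 hle => hmin V' ⟨h1, h2, h3, fun a ha b hb => hVab a (hle ha) b (hle hb)⟩ hle
  have hcardV : Nat.card V ≠ 1 := fun h => hVne (Subgroup.card_eq_one.mp h)
  obtain ⟨p, hp, hpV⟩ := Nat.exists_prime_and_dvd hcardV
  have : Fact p.Prime := ⟨hp⟩
  have hexp : ∀ v ∈ V, v ^ p = 1 := by
    let Ω : Subgroup G :=
      { carrier := {g | g ∈ V ∧ g ^ p = 1}
        mul_mem' := by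
          rintro a b ⟨ha, ha'⟩ ⟨hb, hb'⟩
          refine ⟨V.mul_mem ha hb, ?_⟩
          rw [(show Commute a b from hVab a ha b hb).mul_pow, ha', hb', one_mul]
        one_mem' := ⟨V.one_mem, one_pow _⟩
        inv_mem' := by
          rintro a ⟨ha, ha'⟩
          exact ⟨V.inv_mem ha, by rw [inv_pow, ha', inv_one]⟩ }
    have hΩle : Ω ≤ V := fun g hg => hg.1
    have hΩn : Ω.Normal :=
      ⟨fun a ha g => ⟨hVn.conj_mem a ha.1 g, by rw [conj_pow, ha.2]; simp⟩⟩
    have hΩne : Ω ≠ ⊥ := by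
      obtain ⟨x, hx⟩ := exists_prime_orderOf_dvd_card' p hpV
      intro h
      have hxΩ : (x : G) ∈ Ω := ⟨x.2, by rw [← Subgroup.coe_pow, ← hx, pow_orderOf_eq_one]; rfl⟩
      rw [h, Subgroup.mem_bot] at hxΩ
      have : x = 1 := Subtype.ext hxΩ
      rw [this, orderOf_one] at hx
      exact hp.one_lt.ne hx
    have hΩinv : ∀ x ∈ Ω, φ x ∈ Ω :=
      fun x hx => ⟨hVinv x hx.1, by rw [← map_pow, hx.2, map_one]⟩
    have := hmin' Ω hΩn hΩne hΩinv hΩle
    intro v hv
    have hv' : v ∈ Ω := by rw [this]; exact hv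
    exact hv'.2
  have hVp : IsPGroup p V := fun v => ⟨1, by
    rw [pow_one]; exact Subtype.ext (hexp v v.2)⟩
  have := hVn
  have hquo : Group.IsNilpotent (G ⧸ V) := quo_nilpotent φ hφ hφr IH V hVinv hVne
  by_contra hnil
  have hnp : ¬ IsPGroup p G := fun h => hnil h.isNilpotent
  obtain ⟨q, hq, hqp, hqG⟩ := exists_prime_ne_of_not_isPGroup p hnp
  have : Fact q.Prime := ⟨hq⟩
  obtain ⟨Q, hQinv⟩ := exists_invariant_sylow φ hφ q
  have hQne : (Q : Subgroup G) ≠ ⊥ := Q.ne_bot_of_dvd_card hqG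
  have hcop : Nat.Coprime (Nat.card V) (Nat.card Q) := by
    obtain ⟨a, ha⟩ := IsPGroup.iff_card.mp hVp
    obtain ⟨b, hb⟩ := IsPGroup.iff_card.mp Q.isPGroup'
    rw [ha, hb]
    exact Nat.Coprime.pow _ _ ((Nat.coprime_primes hp hq).mpr (Ne.symm hqp))
  have hVQ : V ⊓ (Q : Subgroup G) = ⊥ := (Subgroup.disjoint_of_coprime_natCard hcop).eq_bot
  have hHn : (V ⊔ (Q : Subgroup G)).Normal := by
    have hsurj : Function.Surjective (QuotientGroup.mk' V) := QuotientGroup.mk'_surjective V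
    have h03 : Group.IsNilpotent (G ⧸ V) ↔ ∀ (p : ℕ) (_hp : Fact p.Prime)
        (P : Sylow p (G ⧸ V)), (P : Subgroup (G ⧸ V)).Normal :=
      (Group.isNilpotent_of_finite_tfae (G := G ⧸ V)).out 0 3
    have hn := h03.mp hquo q ‹_› (Q.mapSurjective hsurj)
    rw [Sylow.coe_mapSurjective] at hn
    have hn2 : (((Q : Subgroup G).map (QuotientGroup.mk' V)).comap (QuotientGroup.mk' V)).Normal :=
      hn.comap _
    rw [Subgroup.comap_map_eq, QuotientGroup.ker_mk', sup_comm] at hn2
    exact hn2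
  have hHinv : ∀ x ∈ V ⊔ (Q : Subgroup G), φ x ∈ V ⊔ (Q : Subgroup G) := by
    intro x hx
    obtain ⟨v, hv, y, hy, rfl⟩ := Subgroup.mem_sup_of_normal_left.mp hx
    rw [map_mul]
    exact Subgroup.mul_mem_sup (hVinv v hv) (hQinv y hy)
  by_cases hH : V ⊔ (Q : Subgroup G) = ⊤
  · -- `G = VQ`
    set A : Subgroup G := (Subgroup.center (Q : Subgroup G)).map (Q : Subgroup G).subtype
      with hAdef
    have hAle : A ≤ Q := by rintro _ ⟨w, _, rfl⟩; exact w.2
    have hAinv : ∀ x ∈ A, φ x ∈ A :=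
      char_invariant φ hinj (Q : Subgroup G) hQinv (Subgroup.center (Q : Subgroup G))
    have hAcomm : ∀ a ∈ A, ∀ y ∈ (Q : Subgroup G), a * y = y * a := by
      rintro _ ⟨w, hw, rfl⟩ y hy
      have := Subgroup.mem_center_iff.mp hw ⟨y, hy⟩
      exact (congrArg Subtype.val this).symm
    have hAne : A ≠ ⊥ := by
      have : Nontrivial (Q : Subgroup G) := (Subgroup.nontrivial_iff_ne_bot _).mpr hQne
      have hc := (Q.isPGroup').center_nontrivial
      obtain ⟨z, hz⟩ := exists_ne (1 : Subgroup.center (Q : Subgroup G))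
      intro h
      have hzA : ((z : (Q : Subgroup G)) : G) ∈ A := ⟨z, z.2, rfl⟩
      rw [h, Subgroup.mem_bot] at hzA
      exact hz (Subtype.ext (Subtype.ext hzA))
    have hdec : ∀ g : G, ∃ v ∈ V, ∃ y ∈ (Q : Subgroup G), g = v * y := by
      intro g
      have hg : g ∈ V ⊔ (Q : Subgroup G) := by rw [hH]; trivial
      obtain ⟨v, hv, y, hy, rfl⟩ := Subgroup.mem_sup_of_normal_left.mp hg
      exact ⟨v, hv, y, hy, rfl⟩
    set W' : Subgroup G := V ⊓ Subgroup.centralizer (A : Set G) with hW'def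
    have hW'n : W'.Normal := by
      refine ⟨fun x hx g => ?_⟩
      obtain ⟨v, hv, y, hy, rfl⟩ := hdec g
      have hxV : x ∈ V := hx.1
      have hxC : x ∈ Subgroup.centralizer (A : Set G) := hx.2
      have h1 : y * x * y⁻¹ ∈ V := hVn.conj_mem x hxV y
      have h2 : v * y * x * (v * y)⁻¹ = y * x * y⁻¹ := by
        have := hVab v hv (y * x * y⁻¹) h1
        calc v * y * x * (v * y)⁻¹ = v * (y * x * y⁻¹) * v⁻¹ := by group
          _ = y * x * y⁻¹ := by rw [this, mul_inv_cancel_right]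
      rw [h2]
      refine ⟨h1, ?_⟩
      show y * x * y⁻¹ ∈ Subgroup.centralizer (A : Set G)
      rw [Subgroup.mem_centralizer_iff]
      intro a ha
      have hay := hAcomm a ha y hy
      have hax := Subgroup.mem_centralizer_iff.mp hxC a ha
      have hay' : a * y⁻¹ = y⁻¹ * a := by
        calc a * y⁻¹ = y⁻¹ * (y * a) * y⁻¹ := by group
          _ = y⁻¹ * (a * y) * y⁻¹ := by rw [hay]
          _ = y⁻¹ * a := by group
      calc a * (y * x * y⁻¹) = (a * y) * x * y⁻¹ := by group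
        _ = y * (a * x) * y⁻¹ := by rw [hay]; group
        _ = y * x * (a * y⁻¹) := by rw [hax]; group
        _ = y * x * y⁻¹ * a := by rw [hay']; group
    have hW'inv : ∀ x ∈ W', φ x ∈ W' := by
      intro x hx
      refine ⟨hVinv x hx.1, ?_⟩
      show φ x ∈ Subgroup.centralizer (A : Set G)
      rw [Subgroup.mem_centralizer_iff]
      intro a ha
      obtain ⟨a', ha', rfl⟩ := exists_preimage φ hinj A hAinv ha
      rw [← map_mul, ← map_mul, Subgroup.mem_centralizer_iff.mp hx.2 a' ha']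
    by_cases hW' : W' = ⊥
    · apply hVne
      rw [eq_bot_iff]
      intro v hv
      have hAV : ∀ a ∈ A, ∀ v ∈ V, a * v * a⁻¹ ∈ V := fun a _ v hv => hVn.conj_mem v hv a
      have hcopA : Nat.Coprime (Nat.card A) p := by
        obtain ⟨b, hb⟩ := IsPGroup.iff_card.mp Q.isPGroup'
        have h1 : Nat.card A ∣ q ^ b := hb ▸ Subgroup.card_dvd_of_le hAle
        exact Nat.Coprime.coprime_dvd_left h1
          (Nat.Coprime.pow_left _ ((Nat.coprime_primes hq hp).mpr hqp))
      have key := module_lemma_mul (A := A) (V := V)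
        (fun a b => Subtype.ext (hAcomm a a.2 b (hAle b.2)))
        (fun v w => Subtype.ext (hVab v v.2 w w.2))
        (res φ A hAinv) (res_fpf φ A hAinv hφ) hr
        (fun a => Subtype.ext (by rw [res_iterate]; exact hφr a))
        (fun a v => ⟨a * v * a⁻¹, hAV a a.2 v v.2⟩)
        (fun v => Subtype.ext (by simp))
        (fun a b v => Subtype.ext (by simp [mul_assoc]))
        (fun a v w => Subtype.ext (by simp [mul_assoc]))
        (res φ V hVinv)
        (fun v w => map_mul _ v w)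
        (fun v => Subtype.ext (by rw [res_iterate]; exact hφr v))
        (fun a v => Subtype.ext (by simp))
        (fun v hv => Subtype.ext (hφ v (congrArg Subtype.val hv)))
        (fun v hv => by
          have hvW : (v : G) ∈ W' := ⟨v.2, by
            show (v : G) ∈ Subgroup.centralizer (A : Set G)
            rw [Subgroup.mem_centralizer_iff]
            intro a ha
            have h1 : a * (v : G) * a⁻¹ = v := congrArg Subtype.val (hv ⟨a, ha⟩)
            calc a * (v : G) = a * v * a⁻¹ * a := by group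
              _ = v * a := by rw [h1]⟩
          rw [hW', Subgroup.mem_bot] at hvW
          exact Subtype.ext hvW)
        (fun v hv => by
          have h1 : (v : G) ^ Nat.card A = 1 := by
            have := congrArg Subtype.val hv
            simpa using this
          have h2 : (v : G) ^ p = 1 := hexp v v.2
          have h3 := pow_gcd_eq_one.mpr ⟨h1, h2⟩
          rw [hcopA, pow_one] at h3
          exact Subtype.ext h3)
        ⟨v, hv⟩
      exact congrArg Subtype.val key
    · have hW'V : W' = V := hmin' W' hW'n hW' hW'inv inf_le_left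
      have hAcen : A ≤ Subgroup.center G := by
        intro a ha
        rw [Subgroup.mem_center_iff]
        intro g
        obtain ⟨v, hv, y, hy, rfl⟩ := hdec g
        have hvC : v ∈ Subgroup.centralizer (A : Set G) := by
          have : v ∈ W' := by rw [hW'V]; exact hv
          exact this.2
        have h1 := Subgroup.mem_centralizer_iff.mp hvC a ha
        have h2 := hAcomm a ha y hy
        rw [mul_assoc, ← h2, ← mul_assoc, ← h1, mul_assoc]
      have hZne : Subgroup.center G ≠ ⊥ := fun h => hAne (le_bot_iff.mp (h ▸ hAcen))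
      have hZinv : ∀ x ∈ Subgroup.center G, φ x ∈ Subgroup.center G :=
        char_invariant_top φ hinj _
      have hquoZ : Group.IsNilpotent (G ⧸ Subgroup.center G) :=
        quo_nilpotent φ hφ hφr IH _ hZinv hZne
      apply hnil
      exact Subgroup.isNilpotent_of_ker_le_center (QuotientGroup.mk' (Subgroup.center G))
        (by rw [QuotientGroup.ker_mk'])
  · -- `VQ` is proper, hence nilpotent, so `Q` is normal in `G`
    have hHnil : Group.IsNilpotent (V ⊔ (Q : Subgroup G) : Subgroup G) :=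
      sub_nilpotent φ hφ hφr IH _ hHinv hH
    have hQle : (Q : Subgroup G) ≤ V ⊔ (Q : Subgroup G) := le_sup_right
    have h03 : Group.IsNilpotent (V ⊔ (Q : Subgroup G) : Subgroup G) ↔
        ∀ (p : ℕ) (_hp : Fact p.Prime) (P : Sylow p (V ⊔ (Q : Subgroup G) : Subgroup G)),
          (P : Subgroup (V ⊔ (Q : Subgroup G) : Subgroup G)).Normal :=
      (Group.isNilpotent_of_finite_tfae (G := (V ⊔ (Q : Subgroup G) : Subgroup G))).out 0 3
    have hQ'n := h03.mp hHnil q ‹_› (Q.subtype hQle)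
    have hQ'c := Sylow.characteristic_of_normal _ hQ'n
    rw [Sylow.coe_subtype] at hQ'c
    have := hQ'c
    have := hHn
    have hQn : (((Q : Subgroup G).subgroupOf (V ⊔ (Q : Subgroup G))).map
        (V ⊔ (Q : Subgroup G)).subtype).Normal := inferInstance
    rw [Subgroup.map_subgroupOf_eq_of_le hQle] at hQn
    have := hQn
    have hquoQ : Group.IsNilpotent (G ⧸ (Q : Subgroup G)) :=
      quo_nilpotent φ hφ hφr IH Q hQinv hQne
    apply hnil
    have hker : ((QuotientGroup.mk' V).prod (QuotientGroup.mk' (Q : Subgroup G))).ker = ⊥ := by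
      rw [MonoidHom.ker_prod, QuotientGroup.ker_mk', QuotientGroup.ker_mk', hVQ]
    exact Subgroup.isNilpotent_of_ker_le_center
      ((QuotientGroup.mk' V).prod (QuotientGroup.mk' (Q : Subgroup G)))
      (by rw [hker]; exact bot_le)

/-- A nontrivial invariant normal `p`-subgroup forces nilpotency (inductive step). -/
theorem nilpotent_of_normal_pgroup (hr : r.Prime) {p : ℕ} [Fact p.Prime] (W : Subgroup G)
    (hWn : W.Normal) (hWne : W ≠ ⊥) (hWp : IsPGroup p W) (hWinv : ∀ x ∈ W, φ x ∈ W) :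
    Group.IsNilpotent G := by
  have hinj : Function.Injective φ := injective_of_iterate φ hr.pos hφr
  have := hWn
  have : Nontrivial W := (Subgroup.nontrivial_iff_ne_bot _).mpr hWne
  have hc : Nontrivial (Subgroup.center W) := hWp.center_nontrivial
  refine nilpotent_of_abelian_normal φ hφ hφr IH hr ((Subgroup.center W).map W.subtype)
    inferInstance ?_ (char_invariant φ hinj W hWinv (Subgroup.center W)) ?_
  · obtain ⟨z, hz⟩ := exists_ne (1 : Subgroup.center W)
    intro h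
    have hzA : ((z : W) : G) ∈ (Subgroup.center W).map W.subtype := ⟨z, z.2, rfl⟩
    rw [h, Subgroup.mem_bot] at hzA
    exact hz (Subtype.ext (Subtype.ext hzA))
  · rintro _ ⟨a, ha, rfl⟩ _ ⟨b, hb, rfl⟩
    have := Subgroup.mem_center_iff.mp ha b
    exact (congrArg Subtype.val this).symm

/-- A normal `p`-complement (for a prime `p` dividing `|G|`) forces nilpotency (inductive
step). -/
theorem nilpotent_of_hnpc (hr : r.Prime) {p : ℕ} [Fact p.Prime] (hpG : p ∣ Nat.card G)
    (hG : Cfsg.HasNormalPComplement p G) : Group.IsNilpotent G := by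
  have hinj : Function.Injective φ := injective_of_iterate φ hr.pos hφr
  have hp : p.Prime := Fact.out
  obtain ⟨K, hKn, hKcop, hKq⟩ := H67.hnpc_iff.mp hG
  have := hKn
  have hKinv : ∀ x ∈ K, φ x ∈ K := by
    intro x hx
    apply H67.mem_of_coprime_orderOf K hKq
    rw [orderOf_injective φ hinj x]
    exact Nat.Coprime.coprime_dvd_left (by
      have := orderOf_dvd_natCard (⟨x, hx⟩ : K)
      rwa [Subgroup.orderOf_mk] at this) hKcop
  have hKtop : K ≠ ⊤ := by
    intro h
    rw [h, Subgroup.card_top] at hKcop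
    exact (Nat.Prime.coprime_iff_not_dvd hp).mp hKcop.symm hpG
  have hKnil : Group.IsNilpotent K := sub_nilpotent φ hφ hφr IH K hKinv hKtop
  by_cases hKbot : K = ⊥
  · have : IsPGroup p G := fun g => by
      obtain ⟨k, hk⟩ := hKq g
      rw [hKbot, Subgroup.mem_bot] at hk
      exact ⟨k, hk⟩
    exact this.isNilpotent
  · have : Nontrivial K := (Subgroup.nontrivial_iff_ne_bot _).mpr hKbot
    have hc : Subgroup.center K ≠ ⊥ := Group.IsNilpotent.center_ne_bot K
    refine nilpotent_of_abelian_normal φ hφ hφr IH hr ((Subgroup.center K).map K.subtype)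
      inferInstance ?_ (char_invariant φ hinj K hKinv (Subgroup.center K)) ?_
    · intro h
      exact hc ((Subgroup.map_eq_bot_iff_of_injective _ K.subtype_injective).mp h)
    · rintro _ ⟨a, ha, rfl⟩ _ ⟨b, hb, rfl⟩
      have := Subgroup.mem_center_iff.mp ha b
      exact (congrArg Subtype.val this).symm

theorem step (hT : Oracle2 G) (hr : r.Prime) : Group.IsNilpotent G := by
  have hinj : Function.Injective φ := injective_of_iterate φ hr.pos hφr
  by_contra hnil
  have : Fact (Nat.Prime 2) := ⟨Nat.prime_two⟩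
  have h2 : ¬ IsPGroup 2 G := fun h => hnil h.isNilpotent
  obtain ⟨p, hp, hp2, hpG⟩ := exists_prime_ne_of_not_isPGroup 2 h2
  have : Fact p.Prime := ⟨hp⟩
  obtain ⟨P, hPinv⟩ := exists_invariant_sylow φ hφ p
  have hPne : (P : Subgroup G) ≠ ⊥ := P.ne_bot_of_dvd_card hpG
  obtain ⟨W₁, W₂, hW₁ne, hW₁le, hW₂ne, hW₂le, hinv', hWT⟩ := hT p hp2 P hPne
  have hbij : Function.Bijective φ := Finite.injective_iff_bijective.mp hinj
  obtain ⟨hW₁inv, hW₂inv⟩ := hinv' (MulEquiv.ofBijective φ hbij) hPinv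
  by_cases hN : Subgroup.normalizer (W₁ : Set G) = ⊤
  · exact hnil (nilpotent_of_normal_pgroup φ hφ hφr IH hr W₁
      (Subgroup.normalizer_eq_top_iff.mp hN) hW₁ne (P.isPGroup'.to_le hW₁le) hW₁inv)
  by_cases hC : Subgroup.centralizer (W₂ : Set G) = ⊤
  · have hcen : W₂ ≤ Subgroup.center G := Subgroup.centralizer_eq_top_iff_subset.mp hC
    have hW₂n : W₂.Normal := by
      refine ⟨fun x hx g => ?_⟩
      have := Subgroup.mem_center_iff.mp (hcen hx) g
      rw [this, mul_inv_cancel_right]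
      exact hx
    exact hnil (nilpotent_of_abelian_normal φ hφ hφr IH hr W₂ hW₂n hW₂ne hW₂inv
      (fun a ha b _ => (Subgroup.mem_center_iff.mp (hcen ha) b).symm))
  · have hNnil : Group.IsNilpotent (Subgroup.normalizer (W₁ : Set G)) :=
      sub_nilpotent φ hφ hφr IH _ (normalizer_invariant φ hinj W₁ hW₁inv) hN
    have hCnil : Group.IsNilpotent (Subgroup.centralizer (W₂ : Set G)) :=
      sub_nilpotent φ hφ hφr IH _ (centralizer_invariant φ hinj W₂ hW₂inv) hC
    exact hnil (nilpotent_of_hnpc φ hφ hφr IH hr hpG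
      (hWT (hnpc_of_nilpotent _ p) (hnpc_of_nilpotent _ p)))

end Step

/-- **Thompson's theorem**, modulo a normal `p`-complement oracle: a finite group with a
fixed-point-free endomorphism `φ` with `φ^r = 1`, `r` prime, is nilpotent. -/
theorem thompson_of_oracle (hT : ∀ (H : Type u) [Group H] [Finite H], Oracle2 H) {r : ℕ}
    (hr : r.Prime) (G : Type u) [Group G] [Finite G] (φ : G →* G) (hφ : FixedPointFree φ)
    (hφr : ∀ g, φ^[r] g = g) : Group.IsNilpotent G := by
  suffices h : ∀ (n : ℕ) (G : Type u) [Group G] [Finite G], Nat.card G = n → ∀ φ : G →* G,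
      FixedPointFree φ → (∀ g, φ^[r] g = g) → Group.IsNilpotent G from h _ G rfl φ hφ hφr
  intro n
  induction n using Nat.strong_induction_on with
  | _ n ih =>
    intro G _ _ hn φ hφ hφr
    exact step φ hφ hφr
      (fun H _ _ hlt ψ hψ hψr => ih (Nat.card H) (hn ▸ hlt) H rfl ψ hψ hψr) (hT G) hr

end Cfsg.Agent.H77.Fpf
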