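import Mathlib
import Cfsg.Agent.H77.ThompsonFpf
import Cfsg.Agent.H29.ThompsonInt

set_option autoImplicit false

namespace Cfsg.Agent.H77.Fpf

universe u

variable {G : Type u} [Group G] [Finite G]

theorem map_eq_of_invariant (ψ : G ≃* G) (P : Subgroup G) (hP : ∀ x ∈ P, ψ x ∈ P) :
    P.map ψ.toMonoidHom = P := by
  apply Subgroup.eq_of_le_of_card_ge
  · rintro _ ⟨x, hx, rfl⟩; exact hP x hx
  · rw [Subgroup.card_map_of_injective ψ.injective]

theorem nJ_invariant (ψ : G ≃* G) (P : Subgroup G) (hP : ∀ x ∈ P, ψ x ∈ P) (n : ℕ) :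
    ∀ x ∈ H29.nJ n P, ψ x ∈ H29.nJ n P := by
  intro x hx
  have := H29.nJ_map ψ n P
  rw [map_eq_of_invariant ψ P hP] at this
  rw [← this]; exact Subgroup.mem_map_of_mem _ hx

theorem nZ_invariant (ψ : G ≃* G) (P : Subgroup G) (hP : ∀ x ∈ P, ψ x ∈ P) (n : ℕ) :
    ∀ x ∈ H29.nZ n P, ψ x ∈ H29.nZ n P := by
  intro x hx
  have := H29.nZ_map ψ n P
  rw [map_eq_of_invariant ψ P hP] at this
  rw [← this]; exact Subgroup.mem_map_of_mem _ hx

theorem nJ_ne_bot {p : ℕ} [Fact p.Prime] (P : Subgroup G) (hP : IsPGroup p P) (hPne : P ≠ ⊥) :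
    H29.nJ p P ≠ ⊥ := by
  have hp : p.Prime := Fact.out
  have hpP : p ∣ Nat.card P := by
    obtain ⟨n, hn⟩ := IsPGroup.iff_card.mp hP
    have : n ≠ 0 := by
      rintro rfl
      rw [pow_zero] at hn
      exact hPne (Subgroup.card_eq_one.mp hn)
    rw [hn]; exact dvd_pow_self p this
  obtain ⟨x, hx⟩ := exists_prime_orderOf_dvd_card' p hpP
  have hxp : (x : G) ^ p = 1 := by
    rw [← Subgroup.coe_pow, ← hx, pow_orderOf_eq_one]; rfl
  have hz : Subgroup.zpowers (x : G) ∈ H29.nAb p P :=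
    ⟨Subgroup.zpowers_le.mpr x.2, inferInstance, fun a ha => by
      obtain ⟨k, rfl⟩ := Subgroup.mem_zpowers_iff.mp ha
      rw [← zpow_natCast, ← zpow_mul, mul_comm, zpow_mul, zpow_natCast, hxp, one_zpow]⟩
  obtain ⟨A, hA⟩ := H29.exists_mem_nMax p P
  have hcard := hA.2 _ hz
  intro h
  have hAbot : A = ⊥ := le_bot_iff.mp (h ▸ H29.le_nJ hA)
  rw [hAbot, Subgroup.card_bot, Nat.card_zpowers, Subgroup.orderOf_coe, hx] at hcard
  exact absurd hcard (not_le.mpr hp.one_lt)

/-- Thompson's criterion (`N_G(J(P))` and `C_G(Z(P))`) gives the oracle. -/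
theorem oracle2_of_thompson
    (hTh : ∀ {p : ℕ} [Fact p.Prime], p ≠ 2 → ∀ P : Sylow p G,
      Cfsg.HasNormalPComplement p
        (Subgroup.normalizer (Cfsg.thompsonSubgroupOf p (P : Subgroup G) : Set G)) →
      Cfsg.HasNormalPComplement p (Subgroup.centralizer
        (((P : Subgroup G) ⊓ Subgroup.centralizer (P : Set G) : Subgroup G) : Set G)) →
      Cfsg.HasNormalPComplement p G) : Oracle2 G := by
  intro p _ hp2 P hPne
  refine ⟨Cfsg.thompsonSubgroupOf p (P : Subgroup G),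
    (P : Subgroup G) ⊓ Subgroup.centralizer (P : Set G), ?_, ?_, ?_, inf_le_left, ?_, hTh hp2 P⟩
  · rw [H29.thompsonSubgroupOf_eq]; exact nJ_ne_bot _ P.isPGroup' hPne
  · rw [H29.thompsonSubgroupOf_eq]; exact H29.nJ_le p _
  · have : Nontrivial (P : Subgroup G) := (Subgroup.nontrivial_iff_ne_bot _).mpr hPne
    have hc : Nontrivial (Subgroup.center (P : Subgroup G)) := P.isPGroup'.center_nontrivial
    obtain ⟨z, hz⟩ := exists_ne (1 : Subgroup.center (P : Subgroup G))
    intro h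
    have hzA : ((z : (P : Subgroup G)) : G) ∈
        (P : Subgroup G) ⊓ Subgroup.centralizer (P : Set G) := by
      refine ⟨(z : (P : Subgroup G)).2, ?_⟩
      show ((z : (P : Subgroup G)) : G) ∈ Subgroup.centralizer (P : Set G)
      rw [Subgroup.mem_centralizer_iff]
      intro y hy
      exact congrArg Subtype.val (Subgroup.mem_center_iff.mp z.2 ⟨y, hy⟩)
    rw [h, Subgroup.mem_bot] at hzA
    exact hz (Subtype.ext (Subtype.ext hzA))
  · intro ψ hψ
    refine ⟨?_, ?_⟩
    · rw [H29.thompsonSubgroupOf_eq]; exact nJ_invariant ψ _ hψ p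
    · intro x hx
      refine ⟨hψ x hx.1, ?_⟩
      show ψ x ∈ Subgroup.centralizer ((P : Subgroup G) : Set G)
      rw [Subgroup.mem_centralizer_iff]
      intro y hy
      have hmap := map_eq_of_invariant ψ (P : Subgroup G) hψ
      have hy' : y ∈ (P : Subgroup G).map ψ.toMonoidHom := by rw [hmap]; exact hy
      obtain ⟨y', hy'', rfl⟩ := hy'
      have := Subgroup.mem_centralizer_iff.mp hx.2 y' hy''
      show ψ y' * ψ x = ψ x * ψ y'
      rw [← map_mul, ← map_mul, this]

/-- The Glauberman–Thompson criterion with `Z(J(P))`, abelian version, gives the oracle. -/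
theorem oracle_of_zjA
    (hGT : ∀ {p : ℕ} [Fact p.Prime], p ≠ 2 → ∀ P : Sylow p G,
      Cfsg.HasNormalPComplement p
        (Subgroup.normalizer (Cfsg.centerThompsonAOf (P : Subgroup G) : Set G)) →
      Cfsg.HasNormalPComplement p G) : Oracle G := by
  intro p _ hp2 P hPne
  refine ⟨Cfsg.centerThompsonAOf (P : Subgroup G), ?_, ?_, ?_, hGT hp2 P⟩
  · rw [H29.centerThompsonAOf_eq]
    -- `Z(J(P)) ≠ 1`
    have : Nontrivial (P : Subgroup G) := (Subgroup.nontrivial_iff_ne_bot _).mpr hPne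
    have hc : Nontrivial (Subgroup.center (P : Subgroup G)) := P.isPGroup'.center_nontrivial
    obtain ⟨z, hz⟩ := exists_ne (1 : Subgroup.center (P : Subgroup G))
    have hzcent : ∀ t ∈ (P : Subgroup G), t * ((z : (P : Subgroup G)) : G) =
        ((z : (P : Subgroup G)) : G) * t := by
      intro t ht
      exact congrArg Subtype.val (Subgroup.mem_center_iff.mp z.2 ⟨t, ht⟩)
    intro hbot
    have hmem : ((z : (P : Subgroup G)) : G) ∈ H29.nZ 0 (P : Subgroup G) := by
      have hzp : Subgroup.zpowers ((z : (P : Subgroup G)) : G) ∈ H29.nAb 0 (P : Subgroup G) :=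
        ⟨Subgroup.zpowers_le.mpr (z : (P : Subgroup G)).2, inferInstance, fun _ _ => pow_zero _⟩
      obtain ⟨A, hA⟩ := H29.exists_mem_nMax 0 (P : Subgroup G)
      have hzA : ∀ A ∈ H29.nMax 0 (P : Subgroup G), ((z : (P : Subgroup G)) : G) ∈ A := by
        intro A hA
        apply H29.absorb hA hzp _ (Subgroup.mem_zpowers _)
        rw [Subgroup.zpowers_le, Subgroup.mem_centralizer_iff]
        intro a ha
        exact hzcent a (hA.1.1 ha)
      refine ⟨H29.le_nJ hA (hzA A hA), ?_, pow_zero _⟩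
      rw [Subgroup.mem_centralizer_iff]
      intro j hj
      exact hzcent j (H29.nJ_le 0 _ hj)
    rw [hbot, Subgroup.mem_bot] at hmem
    exact hz (Subtype.ext (Subtype.ext hmem))
  · rw [H29.centerThompsonAOf_eq]; exact H29.nZ_le 0 _
  · intro ψ hψ
    rw [H29.centerThompsonAOf_eq]; exact nZ_invariant ψ _ hψ 0

end Cfsg.Agent.H77.Fpf
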