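import Mathlib
import Cfsg.Agent.H45.MDefs
import Cfsg.Agent.H45.MSeed
import Cfsg.Agent.H44.MBase
import Cfsg.Agent.H60.MUnip
import Cfsg.Agent.H45.MPBase
import Cfsg.Agent.H77.PBase

/-!
# helper77: piece P-SPREAD of S2414 (helper45's project)
-/

set_option autoImplicit false
set_option linter.unusedSectionVars false
set_option linter.unusedVariables false

namespace Cfsg.Agent.H77.MP

open Matrix Cfsg.Agent.H49 Cfsg.Agent.H45.M

variable {F : Type*} [Field F] {k : ℕ}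

/-- The Levi element of a transvection exists. -/
theorem exists_transv_levi (a b : F) (i l : Fin k) (hil : i ≠ l) (c : F) :
    ∃ t : OM k F a b, IsLevi t (1 + c • Matrix.single i l (1 : F))
      (1 - c • Matrix.single l i (1 : F)) 1 := by
  have hN : (Matrix.single i l (1 : F) : Matrix (Fin k) (Fin k) F) * Matrix.single i l (1 : F)
      = 0 := Matrix.single_mul_single_of_ne 1 i l i (Ne.symm hil) 1
  have h1 : (1 + c • Matrix.single i l (1 : F)) * (1 - c • Matrix.single i l (1 : F))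
      = (1 : Matrix (Fin k) (Fin k) F) := by
    rw [Matrix.add_mul, Matrix.one_mul, Matrix.mul_sub, Matrix.mul_one, Matrix.smul_mul,
      Matrix.mul_smul, hN, smul_zero, smul_zero, sub_zero]
    abel
  have h2 : (1 - c • Matrix.single i l (1 : F)) * (1 + c • Matrix.single i l (1 : F))
      = (1 : Matrix (Fin k) (Fin k) F) := by
    rw [Matrix.sub_mul, Matrix.one_mul, Matrix.mul_add, Matrix.mul_one, Matrix.smul_mul,
      Matrix.mul_smul, hN, smul_zero, smul_zero, add_zero]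
    abel
  have e : ((1 - c • Matrix.single i l (1 : F)) : Matrix (Fin k) (Fin k) F)ᵀ
      = 1 - c • Matrix.single l i (1 : F) := by
    rw [Matrix.transpose_sub, Matrix.transpose_one, Matrix.transpose_smul,
      Matrix.transpose_single]
  refine ⟨lev a b ⟨1 + c • Matrix.single i l (1 : F), 1 - c • Matrix.single i l (1 : F), h1, h2⟩
    1, ?_⟩
  intro x y z
  have h := isLevi_lev a b
    ⟨1 + c • Matrix.single i l (1 : F), 1 - c • Matrix.single i l (1 : F), h1, h2⟩ 1 x y z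
  rw [← e]
  exact h

theorem transv_mulVec (i l : Fin k) (v : Fin k → F) :
    (1 + (1 : F) • Matrix.single i l (1 : F)) *ᵥ v = v + v l • Pi.single i (1 : F) := by
  rw [Matrix.add_mulVec, Matrix.one_mulVec, one_smul, Matrix.single_mulVec, one_mul]
  congr 1
  funext j
  by_cases hj : j = i
  · subst hj
    simp
  · simp [Function.update_of_ne hj, Pi.single_eq_of_ne hj]

/-- piece P-SPREAD of S2414. -/
theorem qin_of_graph (a b : F) (hk : 2 ≤ k) (K : Subgroup (OM k F a b))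
    (g : OM k F a b) (A A' B : Matrix (Fin k) (Fin k) F) (hg : IsLevi g A A' 1) (hgK : g ∈ K)
    (hsimple : ∀ X : AddSubgroup (Fin k → F), (∀ v ∈ X, A *ᵥ v ∈ X) → ∀ x ∈ X, x ≠ 0 → X = ⊤)
    (hB : ∀ v : Fin k → F, v ≠ 0 → ∀ t : F, B *ᵥ v ≠ t • v)
    (d₁ d₂ : Fin 2 → F)
    (hbasis : ∀ γ : Matrix (Fin 2) (Fin k) F, ∃ w₁ w₂ : Fin k → F,
      γ = vecMulVec d₁ w₁ + vecMulVec d₂ w₂)
    (hC : ∀ (h : OM k F a b) (x : Fin k → F) (S : Matrix (Fin k) (Fin k) F),
      IsU h (vecMulVec d₁ x + vecMulVec d₂ (B *ᵥ x)) S → h ∈ K)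
    (hT : ∀ (i l : Fin k), i ≠ l → ∀ (c : F) (h : OM k F a b),
      IsLevi h (1 + c • Matrix.single i l (1 : F)) (1 - c • Matrix.single l i (1 : F)) 1 →
        h ∈ K) :
    Qin K := by
  classical
  have hgraph : ∀ x : Fin k → F,
      vecMulVec d₁ x + vecMulVec d₂ (B *ᵥ x) ∈ Cfsg.Agent.H60.M.unipC K := by
    intro x
    obtain ⟨u, S, hu⟩ :=
      Cfsg.Agent.H45.MP.exists_U a b (vecMulVec d₁ x + vecMulVec d₂ (B *ᵥ x))
    exact ⟨u, hC u x S hu, S, hu⟩
  have hZ : ∀ S : Matrix (Fin k) (Fin k) F, (∀ y : Fin k → F, y ⬝ᵥ S *ᵥ y = 0) →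
      S ∈ Cfsg.Agent.H60.M.unipZ K := by
    intro S hS
    obtain ⟨u, hu⟩ := Cfsg.Agent.H44.M.exists_eU a b 0 S
      (fun y => by rw [hS y, Matrix.zero_mulVec, map_zero, add_zero])
    exact ⟨u, hC u 0 S (Cfsg.Agent.H60.M.isU_congr hu (graph_zero d₁ d₂ B).symm rfl), hu⟩
  -- two distinct indices and the transvection Levi element
  obtain ⟨i, l, hil⟩ : ∃ i l : Fin k, i ≠ l :=
    ⟨⟨0, by omega⟩, ⟨1, by omega⟩, by
      intro h
      have := congrArg Fin.val h
      simp at this⟩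
  obtain ⟨t, ht⟩ := exists_transv_levi (k := k) a b i l hil 1
  have htK : t ∈ K := hT i l hil 1 t ht
  have hEv := transv_mulVec (F := F) i l
  -- a nonzero `x₂` with `vecMulVec d₂ x₂` in `unipC K`
  have h1 := Cfsg.Agent.H60.M.unipC_stable K t _ _ 1 ht htK _ (hgraph (Pi.single l 1))
  have h2 := hgraph ((1 + (1 : F) • Matrix.single i l (1 : F)) *ᵥ (Pi.single l 1))
  have h3 : vecMulVec d₂ ((1 + (1 : F) • Matrix.single i l (1 : F)) *ᵥ (B *ᵥ (Pi.single l 1))
      - B *ᵥ ((1 + (1 : F) • Matrix.single i l (1 : F)) *ᵥ (Pi.single l 1)))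
      ∈ Cfsg.Agent.H60.M.unipC K := by
    have e : vecMulVec d₂ ((1 + (1 : F) • Matrix.single i l (1 : F)) *ᵥ (B *ᵥ (Pi.single l 1))
        - B *ᵥ ((1 + (1 : F) • Matrix.single i l (1 : F)) *ᵥ (Pi.single l 1)))
        = (1 : Matrix (Fin 2) (Fin 2) F)
            * (vecMulVec d₁ (Pi.single l 1) + vecMulVec d₂ (B *ᵥ (Pi.single l 1)))
            * (1 + (1 : F) • Matrix.single i l (1 : F))ᵀ
          - (vecMulVec d₁ ((1 + (1 : F) • Matrix.single i l (1 : F)) *ᵥ (Pi.single l 1))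
            + vecMulVec d₂ (B *ᵥ ((1 + (1 : F) • Matrix.single i l (1 : F)) *ᵥ (Pi.single l 1))))
          := by
      rw [Matrix.one_mul, Matrix.add_mul, Cfsg.Agent.H45.MP.vecMulVec_mul_transpose,
        Cfsg.Agent.H45.MP.vecMulVec_mul_transpose, Matrix.vecMulVec_sub]
      abel
    rw [e]
    exact (Cfsg.Agent.H60.M.unipC K).sub_mem h1 h2
  have hne : (1 + (1 : F) • Matrix.single i l (1 : F)) *ᵥ (B *ᵥ (Pi.single l 1))
      - B *ᵥ ((1 + (1 : F) • Matrix.single i l (1 : F)) *ᵥ (Pi.single l 1)) ≠ 0 := by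
    intro h0
    have h4 := sub_eq_zero.mp h0
    rw [hEv, hEv, Pi.single_eq_same, one_smul, Matrix.mulVec_add] at h4
    have h5 : B *ᵥ (Pi.single i (1 : F)) = (B *ᵥ (Pi.single l 1)) l • Pi.single i (1 : F) :=
      (add_left_cancel h4).symm
    refine hB (Pi.single i 1) ?_ _ h5
    intro h
    have := congrFun h i
    simp at this
  -- the `d₂`-line
  let Y : AddSubgroup (Fin k → F) :=
    { carrier := {x | vecMulVec d₂ x ∈ Cfsg.Agent.H60.M.unipC K}
      zero_mem' := by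
        show vecMulVec d₂ (0 : Fin k → F) ∈ Cfsg.Agent.H60.M.unipC K
        rw [vmv_zero]
        exact (Cfsg.Agent.H60.M.unipC K).zero_mem
      add_mem' := by
        intro x y hx hy
        show vecMulVec d₂ (x + y) ∈ Cfsg.Agent.H60.M.unipC K
        rw [Matrix.vecMulVec_add]
        exact (Cfsg.Agent.H60.M.unipC K).add_mem hx hy
      neg_mem' := by
        intro x hx
        show vecMulVec d₂ (-x) ∈ Cfsg.Agent.H60.M.unipC K
        rw [Matrix.vecMulVec_neg]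
        exact (Cfsg.Agent.H60.M.unipC K).neg_mem hx }
  have hYtop : Y = ⊤ := by
    refine hsimple Y ?_ _ h3 hne
    intro v hv
    have h6 := Cfsg.Agent.H60.M.unipC_stable K g A A' 1 hg hgK _ hv
    show vecMulVec d₂ (A *ᵥ v) ∈ Cfsg.Agent.H60.M.unipC K
    rw [Matrix.one_mul, Cfsg.Agent.H45.MP.vecMulVec_mul_transpose] at h6
    exact h6
  have hY : ∀ x : Fin k → F, vecMulVec d₂ x ∈ Cfsg.Agent.H60.M.unipC K := by
    intro x
    have hx : x ∈ Y := by rw [hYtop]; trivial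
    exact hx
  have hY1 : ∀ x : Fin k → F, vecMulVec d₁ x ∈ Cfsg.Agent.H60.M.unipC K := by
    intro x
    have e : vecMulVec d₁ x
        = (vecMulVec d₁ x + vecMulVec d₂ (B *ᵥ x)) - vecMulVec d₂ (B *ᵥ x) := by abel
    rw [e]
    exact (Cfsg.Agent.H60.M.unipC K).sub_mem (hgraph x) (hY _)
  intro h γ S hU
  obtain ⟨w₁, w₂, rfl⟩ := hbasis γ
  exact mem_of_unipC K hZ hU ((Cfsg.Agent.H60.M.unipC K).add_mem (hY1 w₁) (hY w₂))

/-- verbatim check of the posted statement -/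
example (a b : F) (hk : 2 ≤ k) (K : Subgroup (OM k F a b))
    (g : OM k F a b) (A A' B : Matrix (Fin k) (Fin k) F) (hg : IsLevi g A A' 1) (hgK : g ∈ K)
    (hsimple : ∀ X : AddSubgroup (Fin k → F), (∀ v ∈ X, A *ᵥ v ∈ X) → ∀ x ∈ X, x ≠ 0 → X = ⊤)
    (hB : ∀ v : Fin k → F, v ≠ 0 → ∀ t : F, B *ᵥ v ≠ t • v)
    (d₁ d₂ : Fin 2 → F)
    (hbasis : ∀ γ : Matrix (Fin 2) (Fin k) F, ∃ w₁ w₂ : Fin k → F,
      γ = vecMulVec d₁ w₁ + vecMulVec d₂ w₂)
    (hC : ∀ (h : OM k F a b) (x : Fin k → F) (S : Matrix (Fin k) (Fin k) F),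
      IsU h (vecMulVec d₁ x + vecMulVec d₂ (B *ᵥ x)) S → h ∈ K)
    (hT : ∀ (i l : Fin k), i ≠ l → ∀ (c : F) (h : OM k F a b),
      IsLevi h (1 + c • Matrix.single i l (1 : F)) (1 - c • Matrix.single l i (1 : F)) 1 →
        h ∈ K) :
    Qin K :=
  qin_of_graph a b hk K g A A' B hg hgK hsimple hB d₁ d₂ hbasis hC hT

end Cfsg.Agent.H77.MP
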