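import Mathlib
import Cfsg.Agent.H45.MDefs
import Cfsg.Agent.H45.MSeed
import Cfsg.Agent.H44.MBase
import Cfsg.Agent.H60.MUnip
import Cfsg.Agent.H45.MPBase
import Cfsg.Agent.H77.PBase

/-!
# helper77: piece P-UNIPC of S2414 (helper45's project)
-/

set_option autoImplicit false
set_option linter.unusedSectionVars false
set_option linter.unusedVariables false

namespace Cfsg.Agent.H77.MP

open Matrix Cfsg.Agent.H49 Cfsg.Agent.H45.M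

variable {F : Type*} [Field F] {k : ℕ}

theorem graph_comm_eq (a b : F) (B : Matrix (Fin k) (Fin k) F) (d₁ d₂ : Fin 2 → F)
    (h11 : d₁ ⬝ᵥ gam a b *ᵥ d₁ = 0) (h22 : d₂ ⬝ᵥ gam a b *ᵥ d₂ = 0)
    (h12 : d₁ ⬝ᵥ gam a b *ᵥ d₂ = 1) (h21 : d₂ ⬝ᵥ gam a b *ᵥ d₁ = 1) (w w' : Fin k → F) :
    (vecMulVec d₁ w' + vecMulVec d₂ (B *ᵥ w'))ᵀ * gam a b
        * (vecMulVec d₁ w + vecMulVec d₂ (B *ᵥ w))
      - (vecMulVec d₁ w + vecMulVec d₂ (B *ᵥ w))ᵀ * gam a b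
        * (vecMulVec d₁ w' + vecMulVec d₂ (B *ᵥ w'))
      = B * (vecMulVec w' w - vecMulVec w w') + (vecMulVec w' w - vecMulVec w w') * Bᵀ := by
  have e1 : ∀ u v : Fin k → F, B * vecMulVec u v = vecMulVec (B *ᵥ u) v :=
    fun u v => Matrix.mul_vecMulVec B u v
  have e2 : ∀ u v : Fin k → F, vecMulVec u v * Bᵀ = vecMulVec u (B *ᵥ v) := by
    intro u v
    rw [Matrix.vecMulVec_mul, Matrix.vecMul_transpose]
  simp only [Matrix.transpose_add, Matrix.add_mul, Matrix.mul_add, Cfsg.Agent.H60.M.vmv_gam,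
    h11, h12, h21, h22, zero_smul, one_smul, Matrix.mul_sub, Matrix.sub_mul, e1, e2]
  abel

/-- piece P-UNIPC of S2414. -/
theorem unip_c [Fintype F] (a b : F) (K : Subgroup (OM k F a b)) (g s : OM k F a b)
    (A A' B : Matrix (Fin k) (Fin k) F) (hg : IsLevi g A A' 1) (hgK : g ∈ K)
    (hAB : A * B = B * A)
    (hsimple : ∀ X : AddSubgroup (Fin k → F), (∀ v ∈ X, A *ᵥ v ∈ X) → ∀ x ∈ X, x ≠ 0 → X = ⊤)
    (hDB : ∀ M : Matrix (Fin k) (Fin k) F, (∀ y : Fin k → F, y ⬝ᵥ M *ᵥ y = 0) →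
        B * M + M * Bᵀ = 0 → M = 0)
    (d₁ d₂ : Fin 2 → F) (h11 : d₁ ⬝ᵥ gam a b *ᵥ d₁ = 0) (h22 : d₂ ⬝ᵥ gam a b *ᵥ d₂ = 0)
    (h12 : d₁ ⬝ᵥ gam a b *ᵥ d₂ = 1) (h21 : d₂ ⬝ᵥ gam a b *ᵥ d₁ = 1)
    (x₁ : Fin k → F) (hx₁ : x₁ ≠ 0) (S₁ : Matrix (Fin k) (Fin k) F)
    (hs : IsU s (vecMulVec d₁ x₁ + vecMulVec d₂ (B *ᵥ x₁)) S₁) (hsK : s ∈ K) :
    ∀ (h : OM k F a b) (x : Fin k → F) (S : Matrix (Fin k) (Fin k) F),
      IsU h (vecMulVec d₁ x + vecMulVec d₂ (B *ᵥ x)) S → h ∈ K := by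
  classical
  -- (1) all graph parameters occur in `K`
  let X : AddSubgroup (Fin k → F) :=
    { carrier := {x | vecMulVec d₁ x + vecMulVec d₂ (B *ᵥ x) ∈ Cfsg.Agent.H60.M.unipC K}
      zero_mem' := by
        show vecMulVec d₁ (0 : Fin k → F) + vecMulVec d₂ (B *ᵥ (0 : Fin k → F))
          ∈ Cfsg.Agent.H60.M.unipC K
        rw [graph_zero]
        exact (Cfsg.Agent.H60.M.unipC K).zero_mem
      add_mem' := by
        intro x y hx hy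
        show vecMulVec d₁ (x + y) + vecMulVec d₂ (B *ᵥ (x + y)) ∈ Cfsg.Agent.H60.M.unipC K
        rw [graph_add]
        exact (Cfsg.Agent.H60.M.unipC K).add_mem hx hy
      neg_mem' := by
        intro x hx
        show vecMulVec d₁ (-x) + vecMulVec d₂ (B *ᵥ (-x)) ∈ Cfsg.Agent.H60.M.unipC K
        rw [graph_neg]
        exact (Cfsg.Agent.H60.M.unipC K).neg_mem hx }
  have hXtop : X = ⊤ := by
    refine hsimple X ?_ x₁ ⟨s, hsK, S₁, hs⟩ hx₁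
    intro v hv
    have h1 := Cfsg.Agent.H60.M.unipC_stable K g A A' 1 hg hgK _ hv
    show vecMulVec d₁ (A *ᵥ v) + vecMulVec d₂ (B *ᵥ (A *ᵥ v)) ∈ Cfsg.Agent.H60.M.unipC K
    have e : (1 : Matrix (Fin 2) (Fin 2) F) * (vecMulVec d₁ v + vecMulVec d₂ (B *ᵥ v)) * Aᵀ
        = vecMulVec d₁ (A *ᵥ v) + vecMulVec d₂ (B *ᵥ (A *ᵥ v)) := by
      rw [Matrix.one_mul, Matrix.add_mul, Cfsg.Agent.H45.MP.vecMulVec_mul_transpose,
        Cfsg.Agent.H45.MP.vecMulVec_mul_transpose, Matrix.mulVec_mulVec, Matrix.mulVec_mulVec,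
        hAB]
    rw [e] at h1
    exact h1
  have hX : ∀ x : Fin k → F,
      vecMulVec d₁ x + vecMulVec d₂ (B *ᵥ x) ∈ Cfsg.Agent.H60.M.unipC K := by
    intro x
    have hx : x ∈ X := by rw [hXtop]; trivial
    exact hx
  -- (2) the image of the alternating matrices under `M ↦ B * M + M * Bᵀ` is central in `K`
  let P : AddSubmonoid (Matrix (Fin k) (Fin k) F) :=
    { carrier := {M | B * M + M * Bᵀ ∈ Cfsg.Agent.H60.M.unipZ K}
      zero_mem' := by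
        show B * (0 : Matrix (Fin k) (Fin k) F) + 0 * Bᵀ ∈ Cfsg.Agent.H60.M.unipZ K
        rw [Matrix.mul_zero, Matrix.zero_mul, add_zero]
        exact (Cfsg.Agent.H60.M.unipZ K).zero_mem
      add_mem' := by
        intro M M' hM hM'
        show B * (M + M') + (M + M') * Bᵀ ∈ Cfsg.Agent.H60.M.unipZ K
        have e : B * (M + M') + (M + M') * Bᵀ = (B * M + M * Bᵀ) + (B * M' + M' * Bᵀ) := by
          rw [Matrix.mul_add, Matrix.add_mul]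
          abel
        rw [e]
        exact (Cfsg.Agent.H60.M.unipZ K).add_mem hM hM' }
  have helem : ∀ w w' : Fin k → F, vecMulVec w' w - vecMulVec w w' ∈ P := by
    intro w w'
    have h := comm_mem_unipZ' K _ _ (hX w) (hX w')
    rw [graph_comm_eq a b B d₁ d₂ h11 h22 h12 h21] at h
    exact h
  have hP : ∀ M : Matrix (Fin k) (Fin k) F, (∀ y : Fin k → F, y ⬝ᵥ M *ᵥ y = 0) →
      B * M + M * Bᵀ ∈ Cfsg.Agent.H60.M.unipZ K :=
    fun M hM => alt_mem_of_elem P helem M hM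
  -- (3) surjectivity on the alternating matrices
  let f : {M : Matrix (Fin k) (Fin k) F // ∀ y : Fin k → F, y ⬝ᵥ M *ᵥ y = 0} →
      {M : Matrix (Fin k) (Fin k) F // ∀ y : Fin k → F, y ⬝ᵥ M *ᵥ y = 0} :=
    fun M => ⟨B * M.1 + M.1 * Bᵀ, alt_der B M.1 M.2⟩
  have hinj : Function.Injective f := by
    intro M M' hMM
    have h0 : B * M.1 + M.1 * Bᵀ = B * M'.1 + M'.1 * Bᵀ := congrArg Subtype.val hMM
    have h1 : B * (M.1 - M'.1) + (M.1 - M'.1) * Bᵀ = 0 := by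
      rw [Matrix.mul_sub, Matrix.sub_mul]
      have : B * M.1 - B * M'.1 + (M.1 * Bᵀ - M'.1 * Bᵀ)
          = (B * M.1 + M.1 * Bᵀ) - (B * M'.1 + M'.1 * Bᵀ) := by abel
      rw [this, h0, sub_self]
    have h2 : ∀ y : Fin k → F, y ⬝ᵥ (M.1 - M'.1) *ᵥ y = 0 := by
      intro y
      rw [Matrix.sub_mulVec, dotProduct_sub, M.2 y, M'.2 y, sub_zero]
    exact Subtype.ext (sub_eq_zero.mp (hDB _ h2 h1))
  have hsurj : Function.Surjective f := Finite.injective_iff_surjective.mp hinj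
  have hZ : ∀ S : Matrix (Fin k) (Fin k) F, (∀ y : Fin k → F, y ⬝ᵥ S *ᵥ y = 0) →
      S ∈ Cfsg.Agent.H60.M.unipZ K := by
    intro S hS
    obtain ⟨M, hM⟩ := hsurj ⟨S, hS⟩
    have h1 : B * M.1 + M.1 * Bᵀ = S := congrArg Subtype.val hM
    rw [← h1]
    exact hP M.1 M.2
  -- (4) conclusion
  intro h x S hU
  exact mem_of_unipC K hZ hU (hX x)

/-- verbatim check of the posted statement -/
example [Fintype F] (a b : F) (K : Subgroup (OM k F a b)) (g s : OM k F a b)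
    (A A' B : Matrix (Fin k) (Fin k) F) (hg : IsLevi g A A' 1) (hgK : g ∈ K)
    (hAB : A * B = B * A)
    (hsimple : ∀ X : AddSubgroup (Fin k → F), (∀ v ∈ X, A *ᵥ v ∈ X) → ∀ x ∈ X, x ≠ 0 → X = ⊤)
    (hDB : ∀ M : Matrix (Fin k) (Fin k) F, (∀ y : Fin k → F, y ⬝ᵥ M *ᵥ y = 0) →
        B * M + M * Bᵀ = 0 → M = 0)
    (d₁ d₂ : Fin 2 → F) (h11 : d₁ ⬝ᵥ gam a b *ᵥ d₁ = 0) (h22 : d₂ ⬝ᵥ gam a b *ᵥ d₂ = 0)
    (h12 : d₁ ⬝ᵥ gam a b *ᵥ d₂ = 1) (h21 : d₂ ⬝ᵥ gam a b *ᵥ d₁ = 1)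
    (x₁ : Fin k → F) (hx₁ : x₁ ≠ 0) (S₁ : Matrix (Fin k) (Fin k) F)
    (hs : IsU s (vecMulVec d₁ x₁ + vecMulVec d₂ (B *ᵥ x₁)) S₁) (hsK : s ∈ K) :
    ∀ (h : OM k F a b) (x : Fin k → F) (S : Matrix (Fin k) (Fin k) F),
      IsU h (vecMulVec d₁ x + vecMulVec d₂ (B *ᵥ x)) S → h ∈ K :=
  unip_c a b K g s A A' B hg hgK hAB hsimple hDB d₁ d₂ h11 h22 h12 h21 x₁ hx₁ S₁ hs hsK

end Cfsg.Agent.H77.MP
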