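import Mathlib

/-!
# S2953, (R1) sub-case "V ⊄ Q₁": the abstract core (helper1's shape, post 11052)

Elementary proof: `v` centralizes every commutator and every square of `Q₁` (as
`[Q₁, v] ≤ ⟨z⟩` with `z` central of order 2), but not `z₁ = z^k`; hence neither `z₁` nor `z`
is a commutator or a square in `Q₁`.  If `s` moved `Q₁ = C_{T'}(z₁)`, then `t = z₁^s` would
give `z` as a commutator (`t ∈ Q₁`) or as a square (`t ∉ Q₁`).
-/

set_option autoImplicit false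

namespace Cfsg.Agent.H77.R1

universe u

theorem comm_twist {G : Type u} [Group G] (x y c d : G) (hcy : y * c = c * y)
    (hcd : d * c = c * d) (hdx : x * d = d * x) :
    (x * c) * (y * d) * (x * c)⁻¹ * (y * d)⁻¹ = x * y * x⁻¹ * y⁻¹ := by
  have h1 : c * y * d * c⁻¹ = y * d := by
    calc c * y * d * c⁻¹ = y * c * d * c⁻¹ := by rw [hcy]
      _ = y * (c * d) * c⁻¹ := by group
      _ = y * (d * c) * c⁻¹ := by rw [hcd]
      _ = y * d := by group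
  have h2 : d * x⁻¹ * d⁻¹ = x⁻¹ := by
    calc d * x⁻¹ * d⁻¹ = x⁻¹ * (x * d) * x⁻¹ * d⁻¹ := by group
      _ = x⁻¹ * (d * x) * x⁻¹ * d⁻¹ := by rw [hdx]
      _ = x⁻¹ := by group
  calc (x * c) * (y * d) * (x * c)⁻¹ * (y * d)⁻¹
      = x * (c * y * d * c⁻¹) * x⁻¹ * d⁻¹ * y⁻¹ := by group
    _ = x * (y * d) * x⁻¹ * d⁻¹ * y⁻¹ := by rw [h1]
    _ = x * y * (d * x⁻¹ * d⁻¹) * y⁻¹ := by group
    _ = x * y * x⁻¹ * y⁻¹ := by rw [h2]

theorem sq_twist {G : Type u} [Group G] (x c : G) (hcx : x * c = c * x) (hc2 : c * c = 1) :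
    (x * c) * (x * c) = x * x := by
  calc (x * c) * (x * c) = x * (c * x) * c := by group
    _ = x * (x * c) * c := by rw [← hcx]
    _ = x * x * (c * c) := by group
    _ = x * x := by rw [hc2, mul_one]

/-- Minimal form: no finiteness, no `K'`, no 2-group hypothesis. -/
theorem r1_out_min {G : Type u} [Group G] (T' Q₁ : Subgroup G) (z v k s : G)
    (hQT : Q₁ ≤ T') (hvT : v ∈ T')
    (hTQv : ∀ t ∈ T', t ∈ Q₁ ∨ t * v ∈ Q₁) (hv2 : v * v = 1) (hz2 : z * z = 1) (hzQ : z ∈ Q₁)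
    (hzT : ∀ t ∈ T', t * z = z * t)
    (hQv : ∀ q ∈ Q₁, v * q * v⁻¹ = q ∨ v * q * v⁻¹ = q * z) (hk3 : k ^ 3 = 1)
    (hkz : k * z * k⁻¹ ≠ z) (hkQ : ∀ q ∈ Q₁, k * q * k⁻¹ ∈ Q₁)
    (hvk' : v * k * v⁻¹ * k ∈ Q₁)
    (hsT : ∀ t ∈ T', s * t * s⁻¹ ∈ T') (hsv : s * v * s⁻¹ = v ∨ s * v * s⁻¹ = v * z) :
    ∀ q ∈ Q₁, s * q * s⁻¹ ∈ Q₁ := by
  have hvinv : v⁻¹ = v := inv_eq_of_mul_eq_one_left hv2
  have hzinv : z⁻¹ = z := inv_eq_of_mul_eq_one_left hz2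
  have hkinv : k⁻¹ = k * k := by
    have h : k * (k * k) = 1 := by
      rw [← hk3, pow_succ, pow_succ, pow_one, mul_assoc]
    exact inv_eq_of_mul_eq_one_right h
  obtain ⟨z1, hz1def⟩ : ∃ z1 : G, z1 = k * z * k⁻¹ := ⟨_, rfl⟩
  have hz1Q : z1 ∈ Q₁ := by rw [hz1def]; exact hkQ z hzQ
  have hz1sq : z1 * z1 = 1 := by
    rw [hz1def]
    calc k * z * k⁻¹ * (k * z * k⁻¹) = k * (z * z) * k⁻¹ := by group
      _ = 1 := by rw [hz2]; group
  -- `z1` is central in `Q₁`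
  have hz1c : ∀ q ∈ Q₁, q * z1 = z1 * q := by
    intro q hq
    have hq' : k⁻¹ * q * k ∈ Q₁ := by
      have h1 := hkQ _ (hkQ q hq)
      have e : k⁻¹ * q * k = k * (k * q * k⁻¹) * k⁻¹ := by
        calc k⁻¹ * q * k = (k * k) * q * (k * k)⁻¹ := by rw [← hkinv, inv_inv]
          _ = k * (k * q * k⁻¹) * k⁻¹ := by group
      rw [e]; exact h1
    have h2 := hzT _ (hQT hq')
    rw [hz1def]
    calc q * (k * z * k⁻¹) = k * (k⁻¹ * q * k * z) * k⁻¹ := by group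
      _ = k * (z * (k⁻¹ * q * k)) * k⁻¹ := by rw [h2]
      _ = k * z * k⁻¹ * q := by group
  -- `v` does not centralize `z1`
  have hF2 : v * z1 * v⁻¹ ≠ z1 := by
    intro h
    have hvz : v * z * v⁻¹ = z := by rw [hzT v hvT, mul_inv_cancel_right]
    have e1 : v * z1 * v⁻¹
        = (v * k * v⁻¹ * k) * (k⁻¹ * (v * z * v⁻¹) * k) * (v * k * v⁻¹ * k)⁻¹ := by
      rw [hz1def]; group
    rw [hvz] at e1
    have hc : ∀ q ∈ Q₁, q * (k⁻¹ * z * k) * q⁻¹ = k⁻¹ * z * k := by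
      intro q hq
      have h3 := hzT (k * q * k⁻¹) (hQT (hkQ q hq))
      calc q * (k⁻¹ * z * k) * q⁻¹ = k⁻¹ * (k * q * k⁻¹ * z) * k * q⁻¹ := by group
        _ = k⁻¹ * (z * (k * q * k⁻¹)) * k * q⁻¹ := by rw [h3]
        _ = k⁻¹ * z * k := by group
    rw [hc _ hvk', h, hz1def] at e1
    apply hkz
    have h1 : k⁻¹ * z * k = k * (k * z * k⁻¹) * k⁻¹ := by
      calc k⁻¹ * z * k = (k * k) * z * (k * k)⁻¹ := by rw [← hkinv, inv_inv]
        _ = k * (k * z * k⁻¹) * k⁻¹ := by group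
    calc k * z * k⁻¹ = k⁻¹ * z * k := e1
      _ = k * (k * z * k⁻¹) * k⁻¹ := h1
      _ = k * (k⁻¹ * z * k) * k⁻¹ := by rw [e1]
      _ = z := by group
  -- the twist of `v` on `Q₁`
  have htw : ∀ x ∈ Q₁, ∃ c : G, (∀ t ∈ T', t * c = c * t) ∧ c * c = 1 ∧
      v * x * v⁻¹ = x * c := by
    intro x hx
    rcases hQv x hx with e | e
    · exact ⟨1, fun t _ => by rw [mul_one, one_mul], by rw [mul_one], by rw [e, mul_one]⟩
    · exact ⟨z, hzT, hz2, e⟩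
  have htwT : ∀ x ∈ Q₁, ∃ c : G, c ∈ T' ∧ (∀ t ∈ T', t * c = c * t) ∧ c * c = 1 ∧
      v * x * v⁻¹ = x * c := by
    intro x hx
    rcases hQv x hx with e | e
    · exact ⟨1, T'.one_mem, fun t _ => by rw [mul_one, one_mul], by rw [mul_one],
        by rw [e, mul_one]⟩
    · exact ⟨z, hQT hzQ, hzT, hz2, e⟩
  -- `z` is not a commutator in `Q₁`
  have hF3a : ∀ a ∈ Q₁, ∀ b ∈ Q₁, a * b * a⁻¹ * b⁻¹ ≠ z := by
    intro a ha b hb h
    have ha' := hkQ a ha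
    have hb' := hkQ b hb
    obtain ⟨c, hcT, hcc, hc2, hca⟩ := htwT _ ha'
    obtain ⟨d, hdT, hdc, hd2, hdb⟩ := htwT _ hb'
    apply hF2
    have e1 : z1 = (k * a * k⁻¹) * (k * b * k⁻¹) * (k * a * k⁻¹)⁻¹ * (k * b * k⁻¹)⁻¹ := by
      rw [hz1def, ← h]; group
    have e2 : v * z1 * v⁻¹ = (v * (k * a * k⁻¹) * v⁻¹) * (v * (k * b * k⁻¹) * v⁻¹)
        * (v * (k * a * k⁻¹) * v⁻¹)⁻¹ * (v * (k * b * k⁻¹) * v⁻¹)⁻¹ := by
      rw [e1]; group
    rw [e2, hca, hdb, e1]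
    exact comm_twist _ _ c d (hcc _ (hQT hb')) (hcc d hdT) (hdc _ (hQT ha'))
  -- `z` is not a square in `Q₁`
  have hF3b : ∀ a ∈ Q₁, a * a ≠ z := by
    intro a ha h
    have ha' := hkQ a ha
    obtain ⟨c, hcc, hc2, hca⟩ := htw _ ha'
    apply hF2
    have e1 : z1 = (k * a * k⁻¹) * (k * a * k⁻¹) := by
      rw [hz1def, ← h]; group
    have e2 : v * z1 * v⁻¹ = (v * (k * a * k⁻¹) * v⁻¹) * (v * (k * a * k⁻¹) * v⁻¹) := by
      rw [e1]; group
    rw [e2, hca, e1]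
    exact sq_twist _ c (hcc _ (hQT ha')) hc2
  -- main argument
  intro q hq
  by_contra hu
  obtain ⟨u, hudef⟩ : ∃ u : G, u = s * q * s⁻¹ := ⟨_, rfl⟩
  obtain ⟨t, htdef⟩ : ∃ t : G, t = s * z1 * s⁻¹ := ⟨_, rfl⟩
  rw [← hudef] at hu
  have huT : u ∈ T' := by rw [hudef]; exact hsT q (hQT hq)
  have huv : u * v ∈ Q₁ := (hTQv u huT).resolve_left hu
  have htT : t ∈ T' := by rw [htdef]; exact hsT z1 (hQT hz1Q)
  have ht2 : t * t = 1 := by
    rw [htdef]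
    calc s * z1 * s⁻¹ * (s * z1 * s⁻¹) = s * (z1 * z1) * s⁻¹ := by group
      _ = 1 := by rw [hz1sq]; group
  have hut : u * t = t * u := by
    rw [hudef, htdef]
    calc s * q * s⁻¹ * (s * z1 * s⁻¹) = s * (q * z1) * s⁻¹ := by group
      _ = s * (z1 * q) * s⁻¹ := by rw [hz1c q hq]
      _ = s * z1 * s⁻¹ * (s * q * s⁻¹) := by group
  have hzt : t * z = z * t := hzT t htT
  have htv : t * v ≠ v * t := by
    intro h
    apply hF2
    have hvt : v * t * v⁻¹ = t := by rw [← h, mul_inv_cancel_right]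
    have key : v * z1 * v⁻¹ = s⁻¹ * ((s * v * s⁻¹) * t * (s * v * s⁻¹)⁻¹) * s := by
      rw [htdef]; group
    have hback : s⁻¹ * t * s = z1 := by rw [htdef]; group
    rcases hsv with e | e
    · rw [e, hvt, hback] at key
      exact key
    · have hvzt : v * z * t * (v * z)⁻¹ = t := by
        calc v * z * t * (v * z)⁻¹ = v * (z * t) * z⁻¹ * v⁻¹ := by group
          _ = v * (t * z) * z⁻¹ * v⁻¹ := by rw [hzt]
          _ = v * t * v⁻¹ := by group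
          _ = t := hvt
      rw [e, hvzt, hback] at key
      exact key
  rcases hTQv t htT with htQ | htQ
  · -- `t ∈ Q₁`: `z` is a commutator
    rcases hQv t htQ with e | e
    · apply htv
      calc t * v = v * t * v⁻¹ * v := by rw [e]
        _ = v * t := by group
    · have hu' : u = u * v * v := by rw [mul_assoc, hv2, mul_one]
      have h1 : u * t * u⁻¹ = t := by rw [hut, mul_inv_cancel_right]
      have h2 : u * t * u⁻¹ = (u * v) * (v * t * v⁻¹) * (u * v)⁻¹ := by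
        calc u * t * u⁻¹ = (u * v * v) * t * (u * v * v)⁻¹ := by rw [← hu']
          _ = (u * v) * (v * t * v⁻¹) * (u * v)⁻¹ := by group
      rw [h2, e] at h1
      have hzq : u * v * z = z * (u * v) := hzT _ (hQT huv)
      have h3 : (u * v) * (t * z) * (u * v)⁻¹ = (u * v) * t * (u * v)⁻¹ * z := by
        calc (u * v) * (t * z) * (u * v)⁻¹
            = (u * v) * t * (u * v)⁻¹ * ((u * v) * z) * (u * v)⁻¹ := by group
          _ = (u * v) * t * (u * v)⁻¹ * (z * (u * v)) * (u * v)⁻¹ := by rw [hzq]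
          _ = (u * v) * t * (u * v)⁻¹ * z := by group
      rw [h3] at h1
      apply hF3a (u * v) huv t htQ
      calc (u * v) * t * (u * v)⁻¹ * t⁻¹ = t * z⁻¹ * t⁻¹ := by
            rw [eq_mul_inv_of_mul_eq h1]
        _ = t * z * t⁻¹ := by rw [hzinv]
        _ = z * t * t⁻¹ := by rw [hzt]
        _ = z := by group
  · -- `t v ∈ Q₁`: `z` is a square
    have ht' : t = t * v * v := by rw [mul_assoc, hv2, mul_one]
    rcases hQv (t * v) htQ with e | e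
    · apply htv
      calc t * v = v * (t * v) * v⁻¹ := e.symm
        _ = v * t := by group
    · have h1 : (t * v) * (v * (t * v) * v⁻¹) = 1 := by
        calc (t * v) * (v * (t * v) * v⁻¹) = t * (v * v) * t * (v * v⁻¹) := by group
          _ = 1 := by rw [hv2, mul_one, ht2, mul_inv_cancel, mul_one]
      rw [e] at h1
      apply hF3b (t * v) htQ
      have h4 : (t * v) * (t * v) * z = 1 := by rw [mul_assoc]; exact h1
      calc (t * v) * (t * v) = z⁻¹ := eq_inv_of_mul_eq_one_left h4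
        _ = z := hzinv

/-- helper1's exact shape (post 11052). -/
theorem r1_out {G : Type u} [Group G] [Finite G] (T' Q₁ K' O : Subgroup G) (z v k s : G)
    (hQT : Q₁ ≤ T') (hT2 : IsPGroup 2 ↥T') (hvT : v ∈ T') (hvQ : v ∉ Q₁)
    (hTQv : ∀ t ∈ T', t ∈ Q₁ ∨ t * v ∈ Q₁) (hv2 : v * v = 1) (hz2 : z * z = 1) (hzQ : z ∈ Q₁)
    (hzT : ∀ t ∈ T', t * z = z * t)
    (hQv : ∀ q ∈ Q₁, v * q * v⁻¹ = q ∨ v * q * v⁻¹ = q * z) (hkK : k ∈ K') (hk3 : k ^ 3 = 1)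
    (hkz : k * z * k⁻¹ ≠ z) (hkQ : ∀ q ∈ Q₁, k * q * k⁻¹ ∈ Q₁) (hOQ : O ≤ Q₁)
    (hKO : ∀ g ∈ K', ∃ o ∈ O, ∃ i : ℕ, g = o * k ^ i)
    (hKgen : Subgroup.closure {g : G | g ∈ K' ∧ Odd (orderOf g)} = K')
    (hvk : v * k * v⁻¹ ∈ K') (hvk' : v * k * v⁻¹ * k ∈ Q₁)
    (hsT : ∀ t ∈ T', s * t * s⁻¹ ∈ T') (hsv : s * v * s⁻¹ = v ∨ s * v * s⁻¹ = v * z) :
    ∀ q ∈ Q₁, s * q * s⁻¹ ∈ Q₁ :=
  r1_out_min T' Q₁ z v k s hQT hvT hTQv hv2 hz2 hzQ hzT hQv hk3 hkz hkQ hvk' hsT hsv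

end Cfsg.Agent.H77.R1
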