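import Mathlib

/-!
# S3361 piece P-B: an irreducible abelian normal subgroup makes `G` semilinear
-/

namespace Cfsg.Agent.H77.Reg

/-- Transport a semilinear description over a finite field `K` (any universe) to a model in
`Type`. -/
theorem exists_small_model {G : Type*} {V : Type*} [AddCommGroup V] (act : G → V → V)
    {K : Type*} [Field K] [Finite K] (e : V ≃+ K)
    (h : ∀ g : G, ∃ (a : K) (σ : K ≃+* K), ∀ v : V, e (act g v) = a * σ (e v)) :
    ∃ (F : Type) (_ : Field F) (_ : Fintype F) (e : V ≃+ F),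
      ∀ g : G, ∃ (a : F) (σ : F ≃+* F), ∀ v : V, e (act g v) = a * σ (e v) := by
  classical
  letI : Fintype K := Fintype.ofFinite K
  let φ : Shrink.{0} K ≃+* K := Shrink.ringEquiv.{0} K
  refine ⟨Shrink.{0} K, inferInstance, Fintype.ofEquiv K (equivShrink.{0} K),
    e.trans φ.symm.toAddEquiv, ?_⟩
  intro g
  obtain ⟨a, σ, hσ⟩ := h g
  refine ⟨φ.symm a, (φ.trans σ).trans φ.symm, fun v => ?_⟩
  simp [hσ v]

theorem semilinear_of_irred (q : ℕ) [Fact q.Prime] {V : Type*} [AddCommGroup V]
    [Module (ZMod q) V] [Finite V] [Nontrivial V] {G : Type*} [Group G]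
    (ρ : G →* (V ≃ₗ[ZMod q] V))
    (A : Subgroup G) (hAn : A.Normal) (hAc : ∀ a ∈ A, ∀ b ∈ A, a * b = b * a)
    (hirr : ∀ W : Submodule (ZMod q) V, (∀ a ∈ A, ∀ v ∈ W, ρ a v ∈ W) → W = ⊥ ∨ W = ⊤) :
    ∃ (F : Type) (_ : Field F) (_ : Fintype F) (e : V ≃+ F),
      ∀ g : G, ∃ (a : F) (σ : F ≃+* F), ∀ v : V, e (ρ g v) = a * σ (e v) := by
  classical
  set S : Set (Module.End (ZMod q) V) :=
    {x | ∃ a ∈ A, x = ((ρ a : V ≃ₗ[ZMod q] V) : V →ₗ[ZMod q] V)} with hS
  set R : Subalgebra (ZMod q) (Module.End (ZMod q) V) := Algebra.adjoin (ZMod q) S with hR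
  have hSR : ∀ a ∈ A, ((ρ a : V ≃ₗ[ZMod q] V) : V →ₗ[ZMod q] V) ∈ R :=
    fun a ha => Algebra.subset_adjoin ⟨a, ha, rfl⟩
  -- commutativity
  have hScomm : ∀ x ∈ S, ∀ y ∈ S, x * y = y * x := by
    rintro x ⟨a, ha, rfl⟩ y ⟨b, hb, rfl⟩
    ext v
    simp only [Module.End.mul_apply, LinearEquiv.coe_coe]
    rw [← LinearEquiv.mul_apply, ← LinearEquiv.mul_apply, ← map_mul, ← map_mul, hAc a ha b hb]
  have hRcomm : ∀ x ∈ R, ∀ y ∈ R, x * y = y * x := by
    have h1 : R ≤ Subalgebra.centralizer (ZMod q) S := Algebra.adjoin_le (fun x hx => by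
      rw [SetLike.mem_coe, Subalgebra.mem_centralizer_iff]
      intro y hy
      exact hScomm y hy x hx)
    have h2 : R ≤ Subalgebra.centralizer (ZMod q) (R : Set (Module.End (ZMod q) V)) :=
      Algebra.adjoin_le (fun x hx => by
        rw [SetLike.mem_coe, Subalgebra.mem_centralizer_iff]
        intro y hy
        have := h1 hy
        rw [Subalgebra.mem_centralizer_iff] at this
        exact (this x hx).symm)
    intro x hx y hy
    have := h2 hy
    rw [Subalgebra.mem_centralizer_iff] at this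
    exact this x hx
  -- nonzero elements of R are injective
  have hinj : ∀ r ∈ R, r ≠ 0 → Function.Injective r := by
    intro r hr hr0
    have hk : LinearMap.ker r = ⊥ ∨ LinearMap.ker r = ⊤ := by
      apply hirr
      intro a ha v hv
      rw [LinearMap.mem_ker] at hv ⊢
      have h1 := hRcomm r hr _ (hSR a ha)
      have h2 := congrArg (fun f : Module.End (ZMod q) V => f v) h1
      simp only [Module.End.mul_apply, LinearEquiv.coe_coe] at h2
      rw [h2, hv, map_zero]
    rcases hk with hk | hk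
    · exact LinearMap.ker_eq_bot.1 hk
    · exact absurd (LinearMap.ker_eq_top.1 hk) hr0
  have : Finite (Module.End (ZMod q) V) :=
    Finite.of_injective (fun f : Module.End (ZMod q) V => (f : V → V)) DFunLike.coe_injective
  have hF : IsField ↥R := by
    refine ⟨⟨0, 1, ?_⟩, ?_, ?_⟩
    · intro h01
      obtain ⟨v, hv⟩ := exists_ne (0 : V)
      have := congrArg (fun r : ↥R => (r : Module.End (ZMod q) V) v) h01
      simp at this
      exact hv this.symm
    · intro x y
      exact Subtype.ext (hRcomm x x.2 y y.2)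
    · intro a ha
      have hainj : Function.Injective (a : Module.End (ZMod q) V) :=
        hinj a a.2 (fun h => ha (Subtype.ext h))
      have hmul : Function.Injective (fun s : ↥R => a * s) := by
        intro s t hst
        apply Subtype.ext
        ext v
        apply hainj
        have := congrArg (fun r : ↥R => (r : Module.End (ZMod q) V) v) hst
        simpa using this
      obtain ⟨b, hb⟩ := (Finite.injective_iff_surjective.1 hmul) 1
      exact ⟨b, hb⟩
  -- the evaluation map
  obtain ⟨v₀, hv₀⟩ := exists_ne (0 : V)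
  let evl : ↥R →ₗ[ZMod q] V :=
    { toFun := fun r => (r : Module.End (ZMod q) V) v₀
      map_add' := fun r s => by simp
      map_smul' := fun c r => by simp }
  have hevl : ∀ r : ↥R, evl r = (r : Module.End (ZMod q) V) v₀ := fun r => rfl
  have hevinj : Function.Injective evl := by
    rw [injective_iff_map_eq_zero]
    intro r hr
    by_contra hr0
    have := hinj r r.2 (fun h => hr0 (Subtype.ext h))
    exact hv₀ (this (by rw [map_zero]; exact hr))
  have hevsurj : Function.Surjective evl := by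
    rw [← LinearMap.range_eq_top]
    have hk := hirr (LinearMap.range evl) (by
      rintro a ha _ ⟨r, rfl⟩
      exact ⟨⟨_, R.mul_mem (hSR a ha) r.2⟩, rfl⟩)
    rcases hk with hk | hk
    · exfalso
      have h1 : v₀ ∈ LinearMap.range evl := ⟨1, by simp [hevl]⟩
      rw [hk] at h1
      exact hv₀ ((Submodule.mem_bot _).1 h1)
    · exact hk
  let e₀ : ↥R ≃ₗ[ZMod q] V := LinearEquiv.ofBijective evl ⟨hevinj, hevsurj⟩
  have he₀ : ∀ r : ↥R, e₀ r = (r : Module.End (ZMod q) V) v₀ := fun r => rfl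
  -- conjugation preserves R
  have hconj : ∀ g : G, ∀ r ∈ R, (ρ g).conjAlgEquiv (ZMod q) r ∈ R := by
    intro g
    have hle : R ≤ R.comap ((ρ g).conjAlgEquiv (ZMod q)).toAlgHom := by
      apply Algebra.adjoin_le
      rintro x ⟨a, ha, rfl⟩
      rw [SetLike.mem_coe, Subalgebra.mem_comap]
      have h1 : ((ρ g).conjAlgEquiv (ZMod q)).toAlgHom
          ((ρ a : V ≃ₗ[ZMod q] V) : V →ₗ[ZMod q] V) =
          ((ρ (g * a * g⁻¹) : V ≃ₗ[ZMod q] V) : V →ₗ[ZMod q] V) := by
        ext v
        simp [LinearEquiv.conjAlgEquiv_apply, map_mul]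
      rw [h1]
      exact hSR _ (hAn.conj_mem a ha g)
    intro r hr
    exact hle hr
  have key : ∀ g : G, ∃ (a : ↥R) (σ : ↥R ≃+* ↥R), ∀ v : V,
      e₀.symm (ρ g v) = a * σ (e₀.symm v) := by
    intro g
    let σ₀ : ↥R →+* ↥R :=
      { toFun := fun r => ⟨(ρ g).conjAlgEquiv (ZMod q) r, hconj g r r.2⟩
        map_one' := by apply Subtype.ext; simp
        map_mul' := fun r s => by apply Subtype.ext; simp
        map_zero' := by apply Subtype.ext; simp
        map_add' := fun r s => by apply Subtype.ext; simp }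
    have hσ₀ : ∀ r : ↥R, ((σ₀ r : ↥R) : Module.End (ZMod q) V) =
        (ρ g).conjAlgEquiv (ZMod q) r := fun r => rfl
    have hσinj : Function.Injective σ₀ := by
      intro r s hrs
      have := congrArg (fun x : ↥R => (x : Module.End (ZMod q) V)) hrs
      simp only [hσ₀] at this
      exact Subtype.ext (((ρ g).conjAlgEquiv (ZMod q)).injective this)
    let σ : ↥R ≃+* ↥R := RingEquiv.ofBijective σ₀ ⟨hσinj, Finite.injective_iff_surjective.1 hσinj⟩
    refine ⟨e₀.symm (ρ g v₀), σ, fun v => ?_⟩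
    apply e₀.injective
    rw [LinearEquiv.apply_symm_apply, he₀]
    set a := e₀.symm (ρ g v₀) with ha
    have ha' : (a : Module.End (ZMod q) V) v₀ = ρ g v₀ := by
      rw [← he₀, ha, LinearEquiv.apply_symm_apply]
    set r := e₀.symm v with hr
    have hr' : (r : Module.End (ZMod q) V) v₀ = v := by
      rw [← he₀, hr, LinearEquiv.apply_symm_apply]
    have hcomm : a * σ r = σ r * a := Subtype.ext (hRcomm _ a.2 _ (σ r).2)
    rw [hcomm]
    have hσr : ((σ r : ↥R) : Module.End (ZMod q) V) = (ρ g).conjAlgEquiv (ZMod q) r := rfl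
    rw [Subalgebra.coe_mul, Module.End.mul_apply, ha', hσr, LinearEquiv.conjAlgEquiv_apply]
    simp [hr']
  letI : Field ↥R := hF.toField
  exact exists_small_model (fun g v => ρ g v) e₀.symm.toAddEquiv key

example (q : ℕ) [Fact q.Prime] {V : Type*} [AddCommGroup V]
    [Module (ZMod q) V] [Finite V] [Nontrivial V] {G : Type*} [Group G]
    (ρ : G →* (V ≃ₗ[ZMod q] V))
    (A : Subgroup G) (hAn : A.Normal) (hAc : ∀ a ∈ A, ∀ b ∈ A, a * b = b * a)
    (hirr : ∀ W : Submodule (ZMod q) V, (∀ a ∈ A, ∀ v ∈ W, ρ a v ∈ W) → W = ⊥ ∨ W = ⊤) :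
    ∃ (F : Type) (_ : Field F) (_ : Fintype F) (e : V ≃+ F),
      ∀ g : G, ∃ (a : F) (σ : F ≃+* F), ∀ v : V, e (ρ g v) = a * σ (e v) :=
  semilinear_of_irred q ρ A hAn hAc hirr

end Cfsg.Agent.H77.Reg
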