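import Mathlib

/-!
# helper77: piece S5965-NT (helper99's project): five small number-theoretic facts
-/

set_option autoImplicit false

namespace Cfsg.Agent.H77.Sub

open scoped MatrixGroups

variable {F : Type*} [Field F] [Fintype F]

theorem exists_order_sq (r : ℕ) (hr : r.Prime)
    (hv : 2 ≤ padicValNat r (Fintype.card F - 1)) : ∃ u : F, u ^ (r ^ 2) = 1 ∧ u ^ r ≠ 1 := by
  classical
  haveI := Fact.mk hr
  have hne : Fintype.card F - 1 ≠ 0 := by
    intro h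
    rw [h, padicValNat.zero] at hv
    omega
  have hdvd : r ^ 2 ∣ Fintype.card F - 1 := (padicValNat_dvd_iff_le hne).mpr hv
  obtain ⟨g, hg⟩ := IsCyclic.exists_generator (α := Fˣ)
  have hord : orderOf g = Fintype.card F - 1 := by
    rw [orderOf_eq_card_of_forall_mem_zpowers hg, Nat.card_eq_fintype_card, Fintype.card_units]
  obtain ⟨k, hk⟩ := hdvd
  have hkpos : 0 < k := by
    rcases Nat.eq_zero_or_pos k with h | h
    · rw [h, mul_zero] at hk
      exact absurd hk hne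
    · exact h
  refine ⟨((g ^ k : Fˣ) : F), ?_, ?_⟩
  · rw [← Units.val_pow_eq_pow_val, ← pow_mul, mul_comm, ← hk, ← hord, pow_orderOf_eq_one,
      Units.val_one]
  · intro h
    have h1 : (g ^ k) ^ r = 1 := by
      apply Units.ext
      rw [Units.val_pow_eq_pow_val, h, Units.val_one]
    rw [← pow_mul] at h1
    have h2 : orderOf g ∣ k * r := orderOf_dvd_of_pow_eq_one h1
    rw [hord, hk] at h2
    have h3 : r ^ 2 * k ≤ k * r := Nat.le_of_dvd (Nat.mul_pos hkpos hr.pos) h2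
    have h5 : k * r * r ≤ k * r * 1 := by
      rw [mul_one]
      calc k * r * r = r ^ 2 * k := by ring
        _ ≤ k * r := h3
    have h6 := Nat.le_of_mul_le_mul_left h5 (Nat.mul_pos hkpos hr.pos)
    have h4 : 2 ≤ r := hr.two_le
    omega

theorem pow_eq_one_of_val_one (r : ℕ) (hr : r.Prime)
    (hv : padicValNat r (Fintype.card F - 1) = 1) (l : F) (hl : l ^ (r ^ 2) = 1) : l ^ r = 1 := by
  haveI := Fact.mk hr
  have hl0 : l ≠ 0 := by
    rintro rfl
    rw [zero_pow (pow_ne_zero 2 hr.ne_zero)] at hl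
    exact zero_ne_one hl
  have hq : l ^ (Fintype.card F - 1) = 1 := FiniteField.pow_card_sub_one_eq_one l hl0
  have hne : Fintype.card F - 1 ≠ 0 := by
    intro h
    rw [h, padicValNat.zero] at hv
    omega
  have h1 : orderOf l ∣ r ^ 2 := orderOf_dvd_of_pow_eq_one hl
  have h2 : orderOf l ∣ Fintype.card F - 1 := orderOf_dvd_of_pow_eq_one hq
  obtain ⟨m, hm, hm2⟩ := (Nat.dvd_prime_pow hr).mp h1
  have hm1 : m ≤ 1 := by
    by_contra hcon
    have hm2' : m = 2 := by omega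
    rw [hm2'] at hm2
    rw [hm2] at h2
    have h3 := (padicValNat_dvd_iff_le hne).mp h2
    omega
  have h3 : orderOf l ∣ r := by
    rw [hm2]
    calc r ^ m ∣ r ^ 1 := pow_dvd_pow r hm1
      _ = r := pow_one r
  exact orderOf_dvd_iff_pow_eq_one.mp h3

theorem val_sq_sub_one (q₀ r : ℕ) (hr : r.Prime) (hr2 : r ≠ 2) (hq₀ : 1 < q₀)
    (h : r ∣ q₀ + 1) : padicValNat r (q₀ ^ 2 - 1) = padicValNat r (q₀ + 1) := by
  haveI := Fact.mk hr
  have e : q₀ ^ 2 - 1 = (q₀ - 1) * (q₀ + 1) := by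
    obtain ⟨k, rfl⟩ : ∃ k, q₀ = k + 2 := ⟨q₀ - 2, by omega⟩
    have h1 : k + 2 - 1 = k + 1 := by omega
    have h2 : (k + 2) ^ 2 = (k + 1) * (k + 2 + 1) + 1 := by ring
    rw [h1, h2, Nat.add_sub_cancel]
  have hnd : ¬ r ∣ q₀ - 1 := by
    intro h1
    have h2 : r ∣ (q₀ + 1) - (q₀ - 1) := Nat.dvd_sub h h1
    have h3 : (q₀ + 1) - (q₀ - 1) = 2 := by omega
    rw [h3] at h2
    exact hr2 ((Nat.prime_dvd_prime_iff_eq hr Nat.prime_two).mp h2)
  rw [e, padicValNat.mul (by omega) (by omega), padicValNat.eq_zero_of_not_dvd hnd, zero_add]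

theorem dvd_add_one_iff_order_two (q₀ r : ℕ) (hr : r.Prime) (hr2 : r ≠ 2) :
    r ∣ q₀ + 1 ↔ orderOf (q₀ : ZMod r) = 2 := by
  haveI := Fact.mk hr
  have h2ne : (2 : ZMod r) ≠ 0 := by
    intro h
    have h' : ((2 : ℕ) : ZMod r) = 0 := by exact_mod_cast h
    rw [ZMod.natCast_eq_zero_iff] at h'
    exact hr2 ((Nat.prime_dvd_prime_iff_eq hr Nat.prime_two).mp h')
  constructor
  · intro h
    have h1 : ((q₀ + 1 : ℕ) : ZMod r) = 0 := (ZMod.natCast_eq_zero_iff _ _).mpr h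
    rw [Nat.cast_add, Nat.cast_one] at h1
    have h3 : (q₀ : ZMod r) = -1 := eq_neg_of_add_eq_zero_left h1
    rw [h3]
    haveI : Fact (Nat.Prime 2) := ⟨Nat.prime_two⟩
    apply orderOf_eq_prime
    · ring
    · intro h4
      apply h2ne
      have h5 : (2 : ZMod r) = 1 - (-1) := by ring
      rw [h5, h4]
      ring
  · intro h
    have h1 : (q₀ : ZMod r) ^ 2 = 1 := by
      rw [← h]
      exact pow_orderOf_eq_one _
    have h3 : (q₀ : ZMod r) ≠ 1 := by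
      intro h4
      rw [h4, orderOf_one] at h
      omega
    have h5 : ((q₀ : ZMod r) - 1) * ((q₀ : ZMod r) + 1) = 0 := by
      have h6 : ((q₀ : ZMod r) - 1) * ((q₀ : ZMod r) + 1) = (q₀ : ZMod r) ^ 2 - 1 := by ring
      rw [h6, h1, sub_self]
    rcases mul_eq_zero.mp h5 with h6 | h6
    · exact absurd (sub_eq_zero.mp h6) h3
    · rw [← ZMod.natCast_eq_zero_iff, Nat.cast_add, Nat.cast_one]
      exact h6

theorem dvd_sub_one_iff_order_one (q₀ r : ℕ) (hr : r.Prime) (hq₀ : 0 < q₀) :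
    r ∣ q₀ - 1 ↔ orderOf (q₀ : ZMod r) = 1 := by
  rw [orderOf_eq_one_iff, ← ZMod.natCast_eq_zero_iff, Nat.cast_sub hq₀, Nat.cast_one,
    sub_eq_zero]

/-- verbatim checks -/
example (r : ℕ) (hr : r.Prime)
    (hv : 2 ≤ padicValNat r (Fintype.card F - 1)) : ∃ u : F, u ^ (r ^ 2) = 1 ∧ u ^ r ≠ 1 :=
  exists_order_sq r hr hv
example (r : ℕ) (hr : r.Prime)
    (hv : padicValNat r (Fintype.card F - 1) = 1) (l : F) (hl : l ^ (r ^ 2) = 1) : l ^ r = 1 :=
  pow_eq_one_of_val_one r hr hv l hl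
example (q₀ r : ℕ) (hr : r.Prime) (hr2 : r ≠ 2) (hq₀ : 1 < q₀)
    (h : r ∣ q₀ + 1) : padicValNat r (q₀ ^ 2 - 1) = padicValNat r (q₀ + 1) :=
  val_sq_sub_one q₀ r hr hr2 hq₀ h
example (q₀ r : ℕ) (hr : r.Prime) (hr2 : r ≠ 2) :
    r ∣ q₀ + 1 ↔ orderOf (q₀ : ZMod r) = 2 := dvd_add_one_iff_order_two q₀ r hr hr2
example (q₀ r : ℕ) (hr : r.Prime) (hq₀ : 0 < q₀) :
    r ∣ q₀ - 1 ↔ orderOf (q₀ : ZMod r) = 1 := dvd_sub_one_iff_order_one q₀ r hr hq₀

end Cfsg.Agent.H77.Sub
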