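import Mathlib

/-!
# helper77: piece S5965-RANKEXT (helper99's project): the rank of a matrix is invariant under
field extension
-/

set_option autoImplicit false

namespace Cfsg.Agent.H77.Sub

open scoped MatrixGroups

theorem rank_map_field {K L : Type*} [Field K] [Field L] (f : K →+* L) {m n : ℕ}
    (M : Matrix (Fin m) (Fin n) K) : (M.map f).rank = M.rank := by
  classical
  obtain ⟨r, hr⟩ : ∃ r, M.rank = r := ⟨_, rfl⟩
  let φ : (Fin n → K) →ₗ[K] (Fin m → K) := Matrix.toLin' M
  have hfr : Module.finrank K (LinearMap.range φ) = r := by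
    rw [← hr]
    rfl
  let b : Module.Basis (Fin r) K (LinearMap.range φ) := Module.finBasisOfFinrankEq K _ hfr
  let c : (Fin r → K) →ₗ[K] (Fin m → K) :=
    (LinearMap.range φ).subtype ∘ₗ b.equivFun.symm.toLinearMap
  let ρ : (Fin n → K) →ₗ[K] (Fin r → K) := b.equivFun.toLinearMap ∘ₗ φ.rangeRestrict
  have hcρ : c ∘ₗ ρ = φ := by
    apply LinearMap.ext
    intro v
    simp [c, ρ]
  have hc : LinearMap.ker c = ⊥ := by
    rw [LinearMap.ker_eq_bot]
    exact (Submodule.injective_subtype _).comp b.equivFun.symm.injective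
  have hρ : LinearMap.range ρ = ⊤ := by
    rw [LinearMap.range_eq_top]
    exact b.equivFun.surjective.comp φ.surjective_rangeRestrict
  obtain ⟨c', hc'⟩ := c.exists_leftInverse_of_injective hc
  obtain ⟨ρ', hρ'⟩ := ρ.exists_rightInverse_of_surjective hρ
  have hM : LinearMap.toMatrix' c * LinearMap.toMatrix' ρ = M := by
    rw [← LinearMap.toMatrix'_comp, hcρ]
    exact LinearMap.toMatrix'_toLin' M
  have h1 : LinearMap.toMatrix' c' * M * LinearMap.toMatrix' ρ' = 1 := by
    rw [← hM, Matrix.mul_assoc, Matrix.mul_assoc, ← LinearMap.toMatrix'_comp ρ ρ', hρ',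
      LinearMap.toMatrix'_id, Matrix.mul_one, ← LinearMap.toMatrix'_comp, hc',
      LinearMap.toMatrix'_id]
  rw [hr]
  apply le_antisymm
  · have e : M.map f = (LinearMap.toMatrix' c).map f * (LinearMap.toMatrix' ρ).map f := by
      rw [← Matrix.map_mul, hM]
    rw [e]
    exact (Matrix.rank_mul_le_left _ _).trans (Matrix.rank_le_width _)
  · have e : ((LinearMap.toMatrix' c').map f) * (M.map f) * ((LinearMap.toMatrix' ρ').map f)
        = (1 : Matrix (Fin r) (Fin r) L) := by
      rw [← Matrix.map_mul, ← Matrix.map_mul, h1, Matrix.map_one _ (map_zero f) (map_one f)]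
    have h2 : (1 : Matrix (Fin r) (Fin r) L).rank = r := by
      rw [Matrix.rank_one, Fintype.card_fin]
    calc r = (1 : Matrix (Fin r) (Fin r) L).rank := h2.symm
      _ = (((LinearMap.toMatrix' c').map f) * (M.map f)
            * ((LinearMap.toMatrix' ρ').map f)).rank := by rw [e]
      _ ≤ (((LinearMap.toMatrix' c').map f) * (M.map f)).rank := Matrix.rank_mul_le_left _ _
      _ ≤ (M.map f).rank := Matrix.rank_mul_le_right _ _

/-- verbatim check -/
example {K L : Type*} [Field K] [Field L] (f : K →+* L) {m n : ℕ}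
    (M : Matrix (Fin m) (Fin n) K) : (M.map f).rank = M.rank := rank_map_field f M

end Cfsg.Agent.H77.Sub
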