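import Mathlib
import Cfsg.Agent.H77.SubWBase

/-!
# helper77: piece S5965-WE (helper99's project)
-/

set_option autoImplicit false

namespace Cfsg.Agent.H77.Sub

open scoped MatrixGroups

variable {F : Type*} [Field F] [Fintype F]

theorem exists_witness_E (F₀ : Subfield F) (r : ℕ) (hr : r.Prime) (hr2 : r ≠ 2)
    (hNR : ¬ r ∣ Nat.card ↥F₀ - 1) (hNR' : ¬ r ∣ Nat.card ↥F₀ + 1) (ζ : F) (hζ : ζ ^ r = 1)
    (hζ1 : ζ ≠ 1) :
    ∃ M : Matrix (Fin 2) (Fin 2) F, M.det = 1 ∧ M ^ r = 1 ∧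
      (∀ z : F, M ≠ z • (1 : Matrix (Fin 2) (Fin 2) F)) ∧
      ¬ ∃ τ : F, τ ≠ 0 ∧ ∀ ν : F, (M - ν • (1 : Matrix (Fin 2) (Fin 2) F)).rank
        = (M - (τ * ν ^ Nat.card ↥F₀) • (1 : Matrix (Fin 2) (Fin 2) F)).rank := by
  classical
  have hζ0 : ζ ≠ 0 := by
    rintro rfl
    rw [zero_pow hr.ne_zero] at hζ
    exact zero_ne_one hζ
  have hsq : ζ ^ 2 ≠ 1 := by
    intro h
    have h1 : orderOf ζ ∣ 2 := orderOf_dvd_of_pow_eq_one h
    rcases (Nat.dvd_prime hr).mp (orderOf_dvd_of_pow_eq_one hζ) with h2 | h2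
    · exact hζ1 (orderOf_eq_one_iff.mp h2)
    · rw [h2] at h1
      exact hr2 ((Nat.prime_dvd_prime_iff_eq hr Nat.prime_two).mp h1)
  have hinv : ζ ≠ ζ⁻¹ := by
    intro h
    apply hsq
    have h3 : ζ ^ 2 = ζ * ζ⁻¹ := by
      rw [← h, pow_two]
    rw [h3, mul_inv_cancel₀ hζ0]
  have hθr : (ζ ^ 2) ^ r = 1 := by
    rw [← pow_mul, mul_comm, pow_mul, hζ, one_pow]
  let d : Fin 2 → F := ![ζ, ζ⁻¹]
  have hd0 : d 0 = ζ := rfl
  have hd1 : d 1 = ζ⁻¹ := rfl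
  have hcount1 : ∀ ν : F, Fintype.card {i : Fin 2 // d i ≠ ν} = 1 → ν = ζ ∨ ν = ζ⁻¹ := by
    intro ν h
    by_contra hcon
    push Not at hcon
    have hall : ∀ i : Fin 2, d i ≠ ν := by
      intro i
      fin_cases i
      · exact Ne.symm hcon.1
      · exact Ne.symm hcon.2
    rw [Fintype.card_congr (Equiv.subtypeUnivEquiv hall), Fintype.card_fin] at h
    omega
  have hcζ : Fintype.card {i : Fin 2 // d i ≠ ζ} = 1 := by
    rw [Fintype.card_eq_one_iff]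
    refine ⟨⟨1, Ne.symm hinv⟩, ?_⟩
    rintro ⟨i, hi⟩
    apply Subtype.ext
    fin_cases i
    · exact absurd rfl hi
    · rfl
  have hcζ' : Fintype.card {i : Fin 2 // d i ≠ ζ⁻¹} = 1 := by
    rw [Fintype.card_eq_one_iff]
    refine ⟨⟨0, hinv⟩, ?_⟩
    rintro ⟨i, hi⟩
    apply Subtype.ext
    fin_cases i
    · rfl
    · exact absurd rfl hi
  refine ⟨Matrix.diagonal d, ?_, ?_, ?_, ?_⟩
  · rw [Matrix.det_diagonal, Fin.prod_univ_two, hd0, hd1]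
    exact mul_inv_cancel₀ hζ0
  · rw [Matrix.diagonal_pow]
    have hdr : d ^ r = fun _ => (1 : F) := by
      funext i
      fin_cases i
      · exact hζ
      · show ζ⁻¹ ^ r = 1
        rw [inv_pow, hζ, inv_one]
    rw [hdr]
    exact Matrix.diagonal_one
  · intro z hz
    have h0 := congrFun (congrFun hz 0) 0
    have h1 := congrFun (congrFun hz 1) 1
    simp only [Matrix.diagonal_apply_eq, Matrix.smul_apply, Matrix.one_apply_eq, smul_eq_mul,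
      mul_one] at h0 h1
    rw [hd0] at h0
    rw [hd1] at h1
    exact hinv (h0.trans h1.symm)
  · rintro ⟨τ, hτ, hrank⟩
    have hcount : ∀ ν : F, Fintype.card {i : Fin 2 // d i ≠ ν}
        = Fintype.card {i : Fin 2 // d i ≠ τ * ν ^ Nat.card ↥F₀} := by
      intro ν
      rw [← rank_diag_sub, ← rank_diag_sub]
      exact hrank ν
    have hA := hcount1 _ ((hcount ζ).symm.trans hcζ)
    have hB := hcount1 _ ((hcount ζ⁻¹).symm.trans hcζ')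
    have hinj : τ * ζ ^ Nat.card ↥F₀ ≠ τ * ζ⁻¹ ^ Nat.card ↥F₀ := by
      intro h
      exact hinv (pow_card_sub_inj F₀ _ _ (mul_left_cancel₀ hτ h))
    have hx0 : ζ ^ Nat.card ↥F₀ ≠ 0 := pow_ne_zero _ hζ0
    rw [inv_pow] at hB hinj
    rcases hA with hA | hA <;> rcases hB with hB | hB
    · exact hinj (hA.trans hB.symm)
    · -- both fixed
      have hτ' : τ = ζ⁻¹ * ζ ^ Nat.card ↥F₀ := by
        rw [← hB, mul_assoc, inv_mul_cancel₀ hx0, mul_one]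
      rw [hτ'] at hA
      have hxx : ζ ^ Nat.card ↥F₀ * ζ ^ Nat.card ↥F₀ = ζ * ζ := by
        calc ζ ^ Nat.card ↥F₀ * ζ ^ Nat.card ↥F₀
            = ζ * (ζ⁻¹ * ζ ^ Nat.card ↥F₀ * ζ ^ Nat.card ↥F₀) := by
              rw [← mul_assoc, ← mul_assoc, mul_inv_cancel₀ hζ0, one_mul]
          _ = ζ * ζ := by rw [hA]
      have hfix : (ζ ^ 2) ^ Nat.card ↥F₀ = ζ ^ 2 := by
        rw [← pow_mul, mul_comm, pow_mul, pow_two, pow_two, hxx]
      exact hsq (eq_one_of_pow_fix F₀ r hr hNR (ζ ^ 2) hfix hθr)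
    · -- swapped
      have hτ' : τ = ζ * ζ ^ Nat.card ↥F₀ := by
        calc τ = τ * (ζ ^ Nat.card ↥F₀)⁻¹ * ζ ^ Nat.card ↥F₀ := by
              rw [mul_assoc, inv_mul_cancel₀ hx0, mul_one]
          _ = ζ * ζ ^ Nat.card ↥F₀ := by rw [hB]
      rw [hτ'] at hA
      have hxx : ζ ^ Nat.card ↥F₀ * ζ ^ Nat.card ↥F₀ * (ζ * ζ) = 1 := by
        calc ζ ^ Nat.card ↥F₀ * ζ ^ Nat.card ↥F₀ * (ζ * ζ)
            = ζ * (ζ * ζ ^ Nat.card ↥F₀ * ζ ^ Nat.card ↥F₀) := by ring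
          _ = ζ * ζ⁻¹ := by rw [hA]
          _ = 1 := mul_inv_cancel₀ hζ0
      have hpow : (ζ ^ 2) ^ (Nat.card ↥F₀ + 1) = 1 := by
        rw [pow_succ, ← pow_mul, mul_comm 2, pow_mul, pow_two, pow_two, hxx]
      have hord : orderOf (ζ ^ 2) = r := by
        rcases (Nat.dvd_prime hr).mp (orderOf_dvd_of_pow_eq_one hθr) with h | h
        · exact absurd (orderOf_eq_one_iff.mp h) hsq
        · exact h
      apply hNR'
      rw [← hord]
      exact orderOf_dvd_of_pow_eq_one hpow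
    · exact hinj (hA.trans hB.symm)

/-- verbatim check -/
example (F₀ : Subfield F) (r : ℕ) (hr : r.Prime) (hr2 : r ≠ 2)
    (hNR : ¬ r ∣ Nat.card ↥F₀ - 1) (hNR' : ¬ r ∣ Nat.card ↥F₀ + 1) (ζ : F) (hζ : ζ ^ r = 1)
    (hζ1 : ζ ≠ 1) :
    ∃ M : Matrix (Fin 2) (Fin 2) F, M.det = 1 ∧ M ^ r = 1 ∧
      (∀ z : F, M ≠ z • (1 : Matrix (Fin 2) (Fin 2) F)) ∧
      ¬ ∃ τ : F, τ ≠ 0 ∧ ∀ ν : F, (M - ν • (1 : Matrix (Fin 2) (Fin 2) F)).rank
        = (M - (τ * ν ^ Nat.card ↥F₀) • (1 : Matrix (Fin 2) (Fin 2) F)).rank :=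
  exists_witness_E F₀ r hr hr2 hNR hNR' ζ hζ hζ1

end Cfsg.Agent.H77.Sub
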