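import Cfsg.Agent.H77.TmDefs
import Cfsg.Agent.H86.Ev2Defs

/-!
# S5987: the `r = 2` line from helper86's shared row-level statement `StR2M87`
-/

set_option autoImplicit false
open scoped MatrixGroups
open scoped Matrix

namespace Cfsg.Agent.H77.Tm

open Cfsg.Agent.H77.Tq

universe u

theorem odd_card_of_two_ne_zero {F : Type u} [Field F] [Fintype F] (h2 : (2 : F) ≠ 0) :
    Odd (Fintype.card F) := by
  rw [← Nat.not_even_iff_odd]
  intro he
  have h := (FiniteField.even_card_iff_char_two (F := F)).mpr (Nat.even_iff.mp he)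
  apply h2
  have h0 : ((ringChar F : ℕ) : F) = 0 := ringChar.Nat.cast_ringChar
  rw [h] at h0
  exact_mod_cast h0

/-- helper86's row-level `r = 2` statement gives `StTwo`. -/
theorem two_of_r2 (h : Cfsg.Agent.H86.Ev2.StR2M87.{u}) : StTwo.{u} := by
  intro F _ _ k a b m h2 hab hk hm hmk
  exact h F k m a b (odd_card_of_two_ne_zero h2) hk hm hmk hab

end Cfsg.Agent.H77.Tm

#print axioms Cfsg.Agent.H77.Tm.two_of_r2
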