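import Mathlib
import Cfsg.Prelude.Def_Classical
import Cfsg.Agent.H77.UfDefs

/-! S2149, existence half: explicit data for a subgroup `3·A₇` of `SU₃(5)` over `F25`
(helper77; generated by a computer search, every fact about it is kernel-checked by the pieces).
`Yl` lists normalized representatives of an orbit of 105 non-isotropic points; the matrices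
`R4, S2, D3, P3, A5, A7m` preserve it (tables `tR4 …`), `G0 = B7` does not. -/

set_option autoImplicit false

namespace Cfsg.Agent.H77.Uf

open Matrix

def Yl : List (Fin 3 → F25) :=
  [![⟨0, 0⟩, ⟨0, 0⟩, ⟨1, 0⟩],
   ![⟨0, 0⟩, ⟨1, 0⟩, ⟨0, 0⟩],
   ![⟨0, 0⟩, ⟨1, 0⟩, ⟨1, 0⟩],
   ![⟨0, 0⟩, ⟨1, 0⟩, ⟨4, 0⟩],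
   ![⟨0, 0⟩, ⟨1, 0⟩, ⟨2, 2⟩],
   ![⟨0, 0⟩, ⟨1, 0⟩, ⟨3, 2⟩],
   ![⟨0, 0⟩, ⟨1, 0⟩, ⟨2, 3⟩],
   ![⟨0, 0⟩, ⟨1, 0⟩, ⟨3, 3⟩],
   ![⟨1, 0⟩, ⟨0, 0⟩, ⟨0, 0⟩],
   ![⟨1, 0⟩, ⟨0, 0⟩, ⟨1, 0⟩],
   ![⟨1, 0⟩, ⟨0, 0⟩, ⟨4, 0⟩],
   ![⟨1, 0⟩, ⟨0, 0⟩, ⟨2, 2⟩],
   ![⟨1, 0⟩, ⟨0, 0⟩, ⟨3, 2⟩],
   ![⟨1, 0⟩, ⟨0, 0⟩, ⟨2, 3⟩],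
   ![⟨1, 0⟩, ⟨0, 0⟩, ⟨3, 3⟩],
   ![⟨1, 0⟩, ⟨1, 0⟩, ⟨0, 0⟩],
   ![⟨1, 0⟩, ⟨1, 0⟩, ⟨1, 0⟩],
   ![⟨1, 0⟩, ⟨1, 0⟩, ⟨2, 0⟩],
   ![⟨1, 0⟩, ⟨1, 0⟩, ⟨3, 0⟩],
   ![⟨1, 0⟩, ⟨1, 0⟩, ⟨4, 0⟩],
   ![⟨1, 0⟩, ⟨1, 0⟩, ⟨0, 2⟩],
   ![⟨1, 0⟩, ⟨1, 0⟩, ⟨0, 3⟩],
   ![⟨1, 0⟩, ⟨2, 0⟩, ⟨1, 0⟩],
   ![⟨1, 0⟩, ⟨2, 0⟩, ⟨2, 0⟩],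
   ![⟨1, 0⟩, ⟨2, 0⟩, ⟨3, 0⟩],
   ![⟨1, 0⟩, ⟨2, 0⟩, ⟨4, 0⟩],
   ![⟨1, 0⟩, ⟨3, 0⟩, ⟨1, 0⟩],
   ![⟨1, 0⟩, ⟨3, 0⟩, ⟨2, 0⟩],
   ![⟨1, 0⟩, ⟨3, 0⟩, ⟨3, 0⟩],
   ![⟨1, 0⟩, ⟨3, 0⟩, ⟨4, 0⟩],
   ![⟨1, 0⟩, ⟨4, 0⟩, ⟨0, 0⟩],
   ![⟨1, 0⟩, ⟨4, 0⟩, ⟨1, 0⟩],
   ![⟨1, 0⟩, ⟨4, 0⟩, ⟨2, 0⟩],
   ![⟨1, 0⟩, ⟨4, 0⟩, ⟨3, 0⟩],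
   ![⟨1, 0⟩, ⟨4, 0⟩, ⟨4, 0⟩],
   ![⟨1, 0⟩, ⟨4, 0⟩, ⟨0, 2⟩],
   ![⟨1, 0⟩, ⟨4, 0⟩, ⟨0, 3⟩],
   ![⟨1, 0⟩, ⟨0, 1⟩, ⟨0, 1⟩],
   ![⟨1, 0⟩, ⟨0, 1⟩, ⟨0, 4⟩],
   ![⟨1, 0⟩, ⟨1, 1⟩, ⟨4, 1⟩],
   ![⟨1, 0⟩, ⟨1, 1⟩, ⟨3, 2⟩],
   ![⟨1, 0⟩, ⟨1, 1⟩, ⟨2, 3⟩],
   ![⟨1, 0⟩, ⟨1, 1⟩, ⟨1, 4⟩],
   ![⟨1, 0⟩, ⟨2, 1⟩, ⟨3, 2⟩],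
   ![⟨1, 0⟩, ⟨2, 1⟩, ⟨2, 3⟩],
   ![⟨1, 0⟩, ⟨3, 1⟩, ⟨2, 2⟩],
   ![⟨1, 0⟩, ⟨3, 1⟩, ⟨3, 3⟩],
   ![⟨1, 0⟩, ⟨4, 1⟩, ⟨1, 1⟩],
   ![⟨1, 0⟩, ⟨4, 1⟩, ⟨2, 2⟩],
   ![⟨1, 0⟩, ⟨4, 1⟩, ⟨3, 3⟩],
   ![⟨1, 0⟩, ⟨4, 1⟩, ⟨4, 4⟩],
   ![⟨1, 0⟩, ⟨0, 2⟩, ⟨1, 0⟩],
   ![⟨1, 0⟩, ⟨0, 2⟩, ⟨4, 0⟩],
   ![⟨1, 0⟩, ⟨1, 2⟩, ⟨4, 2⟩],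
   ![⟨1, 0⟩, ⟨1, 2⟩, ⟨1, 3⟩],
   ![⟨1, 0⟩, ⟨2, 2⟩, ⟨0, 0⟩],
   ![⟨1, 0⟩, ⟨2, 2⟩, ⟨3, 1⟩],
   ![⟨1, 0⟩, ⟨2, 2⟩, ⟨4, 1⟩],
   ![⟨1, 0⟩, ⟨2, 2⟩, ⟨3, 2⟩],
   ![⟨1, 0⟩, ⟨2, 2⟩, ⟨2, 3⟩],
   ![⟨1, 0⟩, ⟨2, 2⟩, ⟨1, 4⟩],
   ![⟨1, 0⟩, ⟨2, 2⟩, ⟨2, 4⟩],
   ![⟨1, 0⟩, ⟨3, 2⟩, ⟨0, 0⟩],
   ![⟨1, 0⟩, ⟨3, 2⟩, ⟨1, 1⟩],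
   ![⟨1, 0⟩, ⟨3, 2⟩, ⟨2, 1⟩],
   ![⟨1, 0⟩, ⟨3, 2⟩, ⟨2, 2⟩],
   ![⟨1, 0⟩, ⟨3, 2⟩, ⟨3, 3⟩],
   ![⟨1, 0⟩, ⟨3, 2⟩, ⟨3, 4⟩],
   ![⟨1, 0⟩, ⟨3, 2⟩, ⟨4, 4⟩],
   ![⟨1, 0⟩, ⟨4, 2⟩, ⟨1, 2⟩],
   ![⟨1, 0⟩, ⟨4, 2⟩, ⟨4, 3⟩],
   ![⟨1, 0⟩, ⟨0, 3⟩, ⟨1, 0⟩],
   ![⟨1, 0⟩, ⟨0, 3⟩, ⟨4, 0⟩],
   ![⟨1, 0⟩, ⟨1, 3⟩, ⟨1, 2⟩],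
   ![⟨1, 0⟩, ⟨1, 3⟩, ⟨4, 3⟩],
   ![⟨1, 0⟩, ⟨2, 3⟩, ⟨0, 0⟩],
   ![⟨1, 0⟩, ⟨2, 3⟩, ⟨1, 1⟩],
   ![⟨1, 0⟩, ⟨2, 3⟩, ⟨2, 1⟩],
   ![⟨1, 0⟩, ⟨2, 3⟩, ⟨2, 2⟩],
   ![⟨1, 0⟩, ⟨2, 3⟩, ⟨3, 3⟩],
   ![⟨1, 0⟩, ⟨2, 3⟩, ⟨3, 4⟩],
   ![⟨1, 0⟩, ⟨2, 3⟩, ⟨4, 4⟩],
   ![⟨1, 0⟩, ⟨3, 3⟩, ⟨0, 0⟩],
   ![⟨1, 0⟩, ⟨3, 3⟩, ⟨3, 1⟩],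
   ![⟨1, 0⟩, ⟨3, 3⟩, ⟨4, 1⟩],
   ![⟨1, 0⟩, ⟨3, 3⟩, ⟨3, 2⟩],
   ![⟨1, 0⟩, ⟨3, 3⟩, ⟨2, 3⟩],
   ![⟨1, 0⟩, ⟨3, 3⟩, ⟨1, 4⟩],
   ![⟨1, 0⟩, ⟨3, 3⟩, ⟨2, 4⟩],
   ![⟨1, 0⟩, ⟨4, 3⟩, ⟨4, 2⟩],
   ![⟨1, 0⟩, ⟨4, 3⟩, ⟨1, 3⟩],
   ![⟨1, 0⟩, ⟨0, 4⟩, ⟨0, 1⟩],
   ![⟨1, 0⟩, ⟨0, 4⟩, ⟨0, 4⟩],
   ![⟨1, 0⟩, ⟨1, 4⟩, ⟨1, 1⟩],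
   ![⟨1, 0⟩, ⟨1, 4⟩, ⟨2, 2⟩],
   ![⟨1, 0⟩, ⟨1, 4⟩, ⟨3, 3⟩],
   ![⟨1, 0⟩, ⟨1, 4⟩, ⟨4, 4⟩],
   ![⟨1, 0⟩, ⟨2, 4⟩, ⟨2, 2⟩],
   ![⟨1, 0⟩, ⟨2, 4⟩, ⟨3, 3⟩],
   ![⟨1, 0⟩, ⟨3, 4⟩, ⟨3, 2⟩],
   ![⟨1, 0⟩, ⟨3, 4⟩, ⟨2, 3⟩],
   ![⟨1, 0⟩, ⟨4, 4⟩, ⟨4, 1⟩],
   ![⟨1, 0⟩, ⟨4, 4⟩, ⟨3, 2⟩],
   ![⟨1, 0⟩, ⟨4, 4⟩, ⟨2, 3⟩],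
   ![⟨1, 0⟩, ⟨4, 4⟩, ⟨1, 4⟩]]

/-- order 4 -/
def R4 : Matrix (Fin 3) (Fin 3) F25 :=
  !![⟨0, 0⟩, ⟨0, 0⟩, ⟨4, 0⟩; ⟨0, 0⟩, ⟨1, 0⟩, ⟨0, 0⟩; ⟨1, 0⟩, ⟨0, 0⟩, ⟨0, 0⟩]

/-- involution inverting `R4` -/
def S2 : Matrix (Fin 3) (Fin 3) F25 :=
  !![⟨4, 0⟩, ⟨0, 0⟩, ⟨0, 0⟩; ⟨0, 0⟩, ⟨4, 0⟩, ⟨0, 0⟩; ⟨0, 0⟩, ⟨0, 0⟩, ⟨1, 0⟩]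

/-- `diag(1, ζ, ζ²)`, `ζ = 2 + 2ω` -/
def D3 : Matrix (Fin 3) (Fin 3) F25 :=
  !![⟨1, 0⟩, ⟨0, 0⟩, ⟨0, 0⟩; ⟨0, 0⟩, ⟨2, 2⟩, ⟨0, 0⟩; ⟨0, 0⟩, ⟨0, 0⟩, ⟨2, 3⟩]

/-- cyclic permutation matrix -/
def P3 : Matrix (Fin 3) (Fin 3) F25 :=
  !![⟨0, 0⟩, ⟨1, 0⟩, ⟨0, 0⟩; ⟨0, 0⟩, ⟨0, 0⟩, ⟨1, 0⟩; ⟨1, 0⟩, ⟨0, 0⟩, ⟨0, 0⟩]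

/-- order 5 -/
def A5 : Matrix (Fin 3) (Fin 3) F25 :=
  !![⟨4, 0⟩, ⟨1, 0⟩, ⟨2, 0⟩; ⟨1, 0⟩, ⟨3, 0⟩, ⟨4, 0⟩; ⟨3, 0⟩, ⟨1, 0⟩, ⟨1, 0⟩]

/-- order 7 -/
def A7m : Matrix (Fin 3) (Fin 3) F25 :=
  !![⟨4, 4⟩, ⟨1, 2⟩, ⟨2, 0⟩; ⟨4, 2⟩, ⟨0, 0⟩, ⟨0, 4⟩; ⟨1, 1⟩, ⟨1, 2⟩, ⟨3, 0⟩]

/-- the central scalar matrix `ζ • 1` -/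
def Z1m : Matrix (Fin 3) (Fin 3) F25 :=
  !![⟨2, 2⟩, ⟨0, 0⟩, ⟨0, 0⟩; ⟨0, 0⟩, ⟨2, 2⟩, ⟨0, 0⟩; ⟨0, 0⟩, ⟨0, 0⟩, ⟨2, 2⟩]

/-- an element of `SU₃(5)` not preserving `Yl` (it moves `Yl[1]` out) -/
def G0 : Matrix (Fin 3) (Fin 3) F25 :=
  !![⟨0, 0⟩, ⟨0, 0⟩, ⟨1, 0⟩; ⟨2, 0⟩, ⟨2, 1⟩, ⟨0, 0⟩; ⟨3, 1⟩, ⟨2, 0⟩, ⟨0, 0⟩]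

/-- certificate table for `R4`: entry `i` is `(j, c)` with `R4 *ᵥ Yl[i] = c • Yl[j]` -/
def tR4 : List (ℕ × F25) :=
  [(8, ⟨4, 0⟩), (1, ⟨1, 0⟩), (30, ⟨4, 0⟩), (15, ⟨1, 0⟩), (62, ⟨3, 3⟩), (55, ⟨2, 3⟩), (82, ⟨3, 2⟩), (75, ⟨2, 2⟩), (0, ⟨1, 0⟩), (10, ⟨4, 0⟩), (9, ⟨1, 0⟩), (12, ⟨3, 3⟩), (11, ⟨2, 3⟩), (14, ⟨3, 2⟩), (13, ⟨2, 2⟩), (2, ⟨1, 0⟩), (34, ⟨4, 0⟩), (23, ⟨3, 0⟩), (28, ⟨2, 0⟩), (16, ⟨1, 0⟩), (37, ⟨0, 3⟩), (92, ⟨0, 2⟩), (29, ⟨4, 0⟩), (32, ⟨3, 0⟩), (18, ⟨2, 0⟩), (22, ⟨1, 0⟩), (25, ⟨4, 0⟩), (17, ⟨3, 0⟩), (33, ⟨2, 0⟩), (26, ⟨1, 0⟩), (3, ⟨4, 0⟩), (19, ⟨4, 0⟩), (27,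 ⟨3, 0⟩), (24, ⟨2, 0⟩), (31, ⟨1, 0⟩), (91, ⟨0, 3⟩), (38, ⟨0, 2⟩), (35, ⟨0, 4⟩), (21, ⟨0, 1⟩), (81, ⟨1, 4⟩), (94, ⟨2, 3⟩), (49, ⟨3, 2⟩), (63, ⟨4, 1⟩), (45, ⟨2, 3⟩), (98, ⟨3, 2⟩), (99, ⟨3, 3⟩), (44, ⟨2, 2⟩), (60, ⟨4, 4⟩), (40, ⟨3, 3⟩), (103, ⟨2, 2⟩), (84, ⟨1, 1⟩), (72, ⟨4, 0⟩), (51, ⟨1, 0⟩), (88, ⟨1, 3⟩), (56, ⟨4, 2⟩), (6, ⟨2, 2⟩), (90, ⟨2, 4⟩), (50, ⟨1, 4⟩), (78, ⟨2, 3⟩), (66, ⟨3, 2⟩), (93, ⟨4, 1⟩), (53, ⟨3, 1⟩), (7, ⟨3, 2⟩), (104, ⟨4, 4⟩), (70, ⟨3, 4⟩), (58, ⟨3, 3⟩), (86, ⟨2, 2⟩), (73, ⟨2, 1⟩), (39, ⟨1, 1⟩), (67, ⟨4, 3⟩), (77, ⟨1, 2⟩), (52, ⟨4, 0⟩), (71, ⟨1, 0⟩),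 (80, ⟨4, 3⟩), (64, ⟨1, 2⟩), (4, ⟨2, 3⟩), (42, ⟨4, 4⟩), (74, ⟨3, 4⟩), (85, ⟨3, 3⟩), (59, ⟨2, 2⟩), (69, ⟨2, 1⟩), (101, ⟨1, 1⟩), (5, ⟨3, 3⟩), (54, ⟨2, 4⟩), (96, ⟨1, 4⟩), (65, ⟨2, 3⟩), (79, ⟨3, 2⟩), (47, ⟨4, 1⟩), (89, ⟨3, 1⟩), (61, ⟨1, 3⟩), (83, ⟨4, 2⟩), (20, ⟨0, 4⟩), (36, ⟨0, 1⟩), (87, ⟨4, 4⟩), (102, ⟨3, 3⟩), (41, ⟨2, 2⟩), (57, ⟨1, 1⟩), (43, ⟨3, 3⟩), (100, ⟨2, 2⟩), (97, ⟨2, 3⟩), (46, ⟨3, 2⟩), (68, ⟨1, 4⟩), (48, ⟨2, 3⟩), (95, ⟨3, 2⟩), (76, ⟨4, 1⟩)]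

/-- certificate table for `S2`: entry `i` is `(j, c)` with `S2 *ᵥ Yl[i] = c • Yl[j]` -/
def tS2 : List (ℕ × F25) :=
  [(0, ⟨1, 0⟩), (1, ⟨4, 0⟩), (3, ⟨4, 0⟩), (2, ⟨4, 0⟩), (7, ⟨4, 0⟩), (6, ⟨4, 0⟩), (5, ⟨4, 0⟩), (4, ⟨4, 0⟩), (8, ⟨4, 0⟩), (10, ⟨4, 0⟩), (9, ⟨4, 0⟩), (14, ⟨4, 0⟩), (13, ⟨4, 0⟩), (12, ⟨4, 0⟩), (11, ⟨4, 0⟩), (15, ⟨4, 0⟩), (19, ⟨4, 0⟩), (18, ⟨4, 0⟩), (17, ⟨4, 0⟩), (16, ⟨4, 0⟩), (21, ⟨4, 0⟩), (20, ⟨4, 0⟩), (25, ⟨4, 0⟩), (24, ⟨4, 0⟩), (23, ⟨4, 0⟩), (22, ⟨4, 0⟩), (29, ⟨4, 0⟩), (28, ⟨4, 0⟩), (27, ⟨4, 0⟩), (26, ⟨4, 0⟩), (30, ⟨4, 0⟩), (34, ⟨4, 0⟩), (33, ⟨4,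 0⟩), (32, ⟨4, 0⟩), (31, ⟨4, 0⟩), (36, ⟨4, 0⟩), (35, ⟨4, 0⟩), (38, ⟨4, 0⟩), (37, ⟨4, 0⟩), (42, ⟨4, 0⟩), (41, ⟨4, 0⟩), (40, ⟨4, 0⟩), (39, ⟨4, 0⟩), (44, ⟨4, 0⟩), (43, ⟨4, 0⟩), (46, ⟨4, 0⟩), (45, ⟨4, 0⟩), (50, ⟨4, 0⟩), (49, ⟨4, 0⟩), (48, ⟨4, 0⟩), (47, ⟨4, 0⟩), (52, ⟨4, 0⟩), (51, ⟨4, 0⟩), (54, ⟨4, 0⟩), (53, ⟨4, 0⟩), (55, ⟨4, 0⟩), (61, ⟨4, 0⟩), (60, ⟨4, 0⟩), (59, ⟨4, 0⟩), (58, ⟨4, 0⟩), (57, ⟨4, 0⟩), (56, ⟨4, 0⟩), (62, ⟨4, 0⟩), (68, ⟨4, 0⟩), (67, ⟨4, 0⟩), (66, ⟨4, 0⟩), (65, ⟨4, 0⟩), (64, ⟨4, 0⟩), (63, ⟨4, 0⟩), (70, ⟨4, 0⟩), (69, ⟨4, 0⟩), (72, ⟨4, 0⟩), (71, ⟨4, 0⟩),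 (74, ⟨4, 0⟩), (73, ⟨4, 0⟩), (75, ⟨4, 0⟩), (81, ⟨4, 0⟩), (80, ⟨4, 0⟩), (79, ⟨4, 0⟩), (78, ⟨4, 0⟩), (77, ⟨4, 0⟩), (76, ⟨4, 0⟩), (82, ⟨4, 0⟩), (88, ⟨4, 0⟩), (87, ⟨4, 0⟩), (86, ⟨4, 0⟩), (85, ⟨4, 0⟩), (84, ⟨4, 0⟩), (83, ⟨4, 0⟩), (90, ⟨4, 0⟩), (89, ⟨4, 0⟩), (92, ⟨4, 0⟩), (91, ⟨4, 0⟩), (96, ⟨4, 0⟩), (95, ⟨4, 0⟩), (94, ⟨4, 0⟩), (93, ⟨4, 0⟩), (98, ⟨4, 0⟩), (97, ⟨4, 0⟩), (100, ⟨4, 0⟩), (99, ⟨4, 0⟩), (104, ⟨4, 0⟩), (103, ⟨4, 0⟩), (102, ⟨4, 0⟩), (101, ⟨4, 0⟩)]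

/-- certificate table for `D3`: entry `i` is `(j, c)` with `D3 *ᵥ Yl[i] = c • Yl[j]` -/
def tD3 : List (ℕ × F25) :=
  [(0, ⟨2, 3⟩), (1, ⟨2, 2⟩), (4, ⟨2, 2⟩), (7, ⟨2, 2⟩), (6, ⟨2, 2⟩), (3, ⟨2, 2⟩), (2, ⟨2, 2⟩), (5, ⟨2, 2⟩), (8, ⟨1, 0⟩), (13, ⟨1, 0⟩), (12, ⟨1, 0⟩), (9, ⟨1, 0⟩), (14, ⟨1, 0⟩), (11, ⟨1, 0⟩), (10, ⟨1, 0⟩), (55, ⟨1, 0⟩), (59, ⟨1, 0⟩), (57, ⟨1, 0⟩), (60, ⟨1, 0⟩), (58, ⟨1, 0⟩), (61, ⟨1, 0⟩), (56, ⟨1, 0⟩), (103, ⟨1, 0⟩), (101, ⟨1, 0⟩), (104, ⟨1, 0⟩), (102, ⟨1, 0⟩), (41, ⟨1, 0⟩), (39, ⟨1, 0⟩), (42, ⟨1, 0⟩), (40, ⟨1, 0⟩), (82, ⟨1, 0⟩), (86, ⟨1, 0⟩), (84,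 ⟨1, 0⟩), (87, ⟨1, 0⟩), (85, ⟨1, 0⟩), (88, ⟨1, 0⟩), (83, ⟨1, 0⟩), (69, ⟨1, 0⟩), (70, ⟨1, 0⟩), (96, ⟨1, 0⟩), (95, ⟨1, 0⟩), (94, ⟨1, 0⟩), (93, ⟨1, 0⟩), (46, ⟨1, 0⟩), (45, ⟨1, 0⟩), (71, ⟨1, 0⟩), (72, ⟨1, 0⟩), (24, ⟨1, 0⟩), (22, ⟨1, 0⟩), (25, ⟨1, 0⟩), (23, ⟨1, 0⟩), (100, ⟨1, 0⟩), (99, ⟨1, 0⟩), (37, ⟨1, 0⟩), (38, ⟨1, 0⟩), (75, ⟨1, 0⟩), (77, ⟨1, 0⟩), (81, ⟨1, 0⟩), (79, ⟨1, 0⟩), (78, ⟨1, 0⟩), (76, ⟨1, 0⟩), (80, ⟨1, 0⟩), (30, ⟨1, 0⟩), (33, ⟨1, 0⟩), (36, ⟨1, 0⟩), (31, ⟨1, 0⟩), (34, ⟨1, 0⟩), (35, ⟨1, 0⟩), (32, ⟨1, 0⟩), (53, ⟨1, 0⟩), (54, ⟨1, 0⟩), (44, ⟨1, 0⟩), (43, ⟨1,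 0⟩), (89, ⟨1, 0⟩), (90, ⟨1, 0⟩), (15, ⟨1, 0⟩), (18, ⟨1, 0⟩), (21, ⟨1, 0⟩), (16, ⟨1, 0⟩), (19, ⟨1, 0⟩), (20, ⟨1, 0⟩), (17, ⟨1, 0⟩), (62, ⟨1, 0⟩), (64, ⟨1, 0⟩), (68, ⟨1, 0⟩), (66, ⟨1, 0⟩), (65, ⟨1, 0⟩), (63, ⟨1, 0⟩), (67, ⟨1, 0⟩), (91, ⟨1, 0⟩), (92, ⟨1, 0⟩), (73, ⟨1, 0⟩), (74, ⟨1, 0⟩), (28, ⟨1, 0⟩), (26, ⟨1, 0⟩), (29, ⟨1, 0⟩), (27, ⟨1, 0⟩), (51, ⟨1, 0⟩), (52, ⟨1, 0⟩), (98, ⟨1, 0⟩), (97, ⟨1, 0⟩), (50, ⟨1, 0⟩), (49, ⟨1, 0⟩), (48, ⟨1, 0⟩), (47, ⟨1, 0⟩)]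

/-- certificate table for `P3`: entry `i` is `(j, c)` with `P3 *ᵥ Yl[i] = c • Yl[j]` -/
def tP3 : List (ℕ × F25) :=
  [(1, ⟨1, 0⟩), (8, ⟨1, 0⟩), (15, ⟨1, 0⟩), (30, ⟨1, 0⟩), (55, ⟨1, 0⟩), (62, ⟨1, 0⟩), (75, ⟨1, 0⟩), (82, ⟨1, 0⟩), (0, ⟨1, 0⟩), (2, ⟨1, 0⟩), (3, ⟨4, 0⟩), (6, ⟨2, 2⟩), (7, ⟨3, 2⟩), (4, ⟨2, 3⟩), (5, ⟨3, 3⟩), (9, ⟨1, 0⟩), (16, ⟨1, 0⟩), (22, ⟨1, 0⟩), (26, ⟨1, 0⟩), (31, ⟨1, 0⟩), (51, ⟨1, 0⟩), (71, ⟨1, 0⟩), (28, ⟨2, 0⟩), (18, ⟨2, 0⟩), (33, ⟨2, 0⟩), (24, ⟨2, 0⟩), (23, ⟨3, 0⟩), (32, ⟨3, 0⟩), (17, ⟨3, 0⟩), (27, ⟨3, 0⟩), (10, ⟨4, 0⟩), (34, ⟨4, 0⟩), (29, ⟨4,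 0⟩), (25, ⟨4, 0⟩), (19, ⟨4, 0⟩), (72, ⟨4, 0⟩), (52, ⟨4, 0⟩), (21, ⟨0, 1⟩), (36, ⟨0, 1⟩), (84, ⟨1, 1⟩), (39, ⟨1, 1⟩), (101, ⟨1, 1⟩), (57, ⟨1, 1⟩), (73, ⟨2, 1⟩), (69, ⟨2, 1⟩), (53, ⟨3, 1⟩), (89, ⟨3, 1⟩), (63, ⟨4, 1⟩), (93, ⟨4, 1⟩), (47, ⟨4, 1⟩), (76, ⟨4, 1⟩), (92, ⟨0, 2⟩), (38, ⟨0, 2⟩), (77, ⟨1, 2⟩), (64, ⟨1, 2⟩), (13, ⟨2, 2⟩), (44, ⟨2, 2⟩), (103, ⟨2, 2⟩), (86, ⟨2, 2⟩), (59, ⟨2, 2⟩), (41, ⟨2, 2⟩), (100, ⟨2, 2⟩), (14, ⟨3, 2⟩), (49, ⟨3, 2⟩), (98, ⟨3, 2⟩), (66, ⟨3, 2⟩), (79, ⟨3, 2⟩), (46, ⟨3, 2⟩), (95, ⟨3, 2⟩), (56, ⟨4, 2⟩), (83, ⟨4, 2⟩), (37, ⟨0, 3⟩), (91, ⟨0, 3⟩),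 (88, ⟨1, 3⟩), (61, ⟨1, 3⟩), (11, ⟨2, 3⟩), (94, ⟨2, 3⟩), (45, ⟨2, 3⟩), (78, ⟨2, 3⟩), (65, ⟨2, 3⟩), (97, ⟨2, 3⟩), (48, ⟨2, 3⟩), (12, ⟨3, 3⟩), (99, ⟨3, 3⟩), (40, ⟨3, 3⟩), (58, ⟨3, 3⟩), (85, ⟨3, 3⟩), (102, ⟨3, 3⟩), (43, ⟨3, 3⟩), (67, ⟨4, 3⟩), (80, ⟨4, 3⟩), (35, ⟨0, 4⟩), (20, ⟨0, 4⟩), (81, ⟨1, 4⟩), (50, ⟨1, 4⟩), (96, ⟨1, 4⟩), (68, ⟨1, 4⟩), (90, ⟨2, 4⟩), (54, ⟨2, 4⟩), (70, ⟨3, 4⟩), (74, ⟨3, 4⟩), (60, ⟨4, 4⟩), (104, ⟨4, 4⟩), (42, ⟨4, 4⟩), (87, ⟨4, 4⟩)]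

/-- certificate table for `A5`: entry `i` is `(j, c)` with `A5 *ᵥ Yl[i] = c • Yl[j]` -/
def tA5 : List (ℕ × F25) :=
  [(24, ⟨2, 0⟩), (26, ⟨1, 0⟩), (34, ⟨3, 0⟩), (15, ⟨4, 0⟩), (56, ⟨0, 4⟩), (87, ⟨2, 4⟩), (80, ⟨0, 1⟩), (63, ⟨2, 1⟩), (32, ⟨4, 0⟩), (10, ⟨1, 0⟩), (16, ⟨2, 0⟩), (103, ⟨3, 4⟩), (43, ⟨0, 4⟩), (48, ⟨3, 1⟩), (98, ⟨0, 1⟩), (2, ⟨4, 0⟩), (30, ⟨2, 0⟩), (29, ⟨4, 0⟩), (17, ⟨1, 0⟩), (9, ⟨3, 0⟩), (79, ⟨0, 4⟩), (58, ⟨0, 1⟩), (23, ⟨3, 0⟩), (0, ⟨2, 0⟩), (25, ⟨2, 0⟩), (22, ⟨4, 0⟩), (18, ⟨4, 0⟩), (28, ⟨1, 0⟩), (33, ⟨3, 0⟩), (1, ⟨1, 0⟩), (19, ⟨3, 0⟩), (3, ⟨2, 0⟩), (27,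 ⟨2, 0⟩), (8, ⟨4, 0⟩), (31, ⟨1, 0⟩), (38, ⟨3, 4⟩), (91, ⟨3, 1⟩), (36, ⟨4, 3⟩), (85, ⟨4, 4⟩), (45, ⟨3, 3⟩), (41, ⟨1, 0⟩), (54, ⟨4, 2⟩), (75, ⟨2, 4⟩), (81, ⟨2, 0⟩), (13, ⟨0, 2⟩), (46, ⟨1, 0⟩), (42, ⟨3, 2⟩), (70, ⟨0, 3⟩), (88, ⟨2, 0⟩), (12, ⟨4, 2⟩), (68, ⟨1, 4⟩), (59, ⟨1, 2⟩), (71, ⟨2, 2⟩), (40, ⟨3, 1⟩), (62, ⟨2, 3⟩), (96, ⟨1, 2⟩), (69, ⟨2, 4⟩), (67, ⟨4, 4⟩), (52, ⟨2, 1⟩), (20, ⟨0, 3⟩), (97, ⟨3, 0⟩), (7, ⟨0, 2⟩), (53, ⟨2, 2⟩), (47, ⟨4, 4⟩), (60, ⟨1, 4⟩), (92, ⟨1, 1⟩), (86, ⟨3, 3⟩), (102, ⟨3, 0⟩), (4, ⟨1, 2⟩), (50, ⟨0, 1⟩), (61, ⟨1, 3⟩), (78, ⟨1, 3⟩), (51, ⟨2, 3⟩),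 (82, ⟨2, 2⟩), (95, ⟨3, 4⟩), (39, ⟨1, 3⟩), (44, ⟨3, 0⟩), (5, ⟨0, 3⟩), (21, ⟨0, 2⟩), (72, ⟨2, 4⟩), (90, ⟨2, 1⟩), (83, ⟨4, 1⟩), (74, ⟨2, 3⟩), (49, ⟨3, 0⟩), (6, ⟨1, 3⟩), (65, ⟨3, 2⟩), (37, ⟨1, 4⟩), (104, ⟨4, 1⟩), (76, ⟨1, 1⟩), (77, ⟨1, 2⟩), (101, ⟨0, 4⟩), (66, ⟨4, 1⟩), (35, ⟨4, 2⟩), (55, ⟨2, 1⟩), (73, ⟨4, 3⟩), (94, ⟨1, 0⟩), (100, ⟨3, 2⟩), (11, ⟨0, 3⟩), (57, ⟨2, 0⟩), (93, ⟨3, 3⟩), (99, ⟨1, 0⟩), (84, ⟨1, 1⟩), (14, ⟨4, 3⟩), (64, ⟨2, 0⟩), (89, ⟨0, 2⟩)]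

/-- certificate table for `A7m`: entry `i` is `(j, c)` with `A7m *ᵥ Yl[i] = c • Yl[j]` -/
def tA7m : List (ℕ × F25) :=
  [(52, ⟨2, 0⟩), (9, ⟨1, 2⟩), (70, ⟨3, 2⟩), (80, ⟨4, 2⟩), (83, ⟨0, 1⟩), (103, ⟨2, 1⟩), (94, ⟨0, 3⟩), (53, ⟨2, 3⟩), (72, ⟨4, 4⟩), (34, ⟨1, 4⟩), (25, ⟨2, 4⟩), (10, ⟨3, 3⟩), (29, ⟨0, 3⟩), (19, ⟨3, 0⟩), (1, ⟨3, 4⟩), (56, ⟨0, 1⟩), (100, ⟨2, 1⟩), (101, ⟨4, 1⟩), (36, ⟨1, 1⟩), (28, ⟨3, 1⟩), (6, ⟨0, 2⟩), (54, ⟨0, 2⟩), (40, ⟨3, 3⟩), (92, ⟨0, 3⟩), (50, ⟨2, 3⟩), (15, ⟨4, 3⟩), (95, ⟨4, 0⟩), (35, ⟨1, 0⟩), (87, ⟨3, 0⟩), (3, ⟨4, 3⟩), (89, ⟨3, 2⟩), (45, ⟨0,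 2⟩), (63, ⟨2, 2⟩), (37, ⟨4, 2⟩), (32, ⟨1, 2⟩), (82, ⟨3, 1⟩), (61, ⟨3, 3⟩), (62, ⟨3, 2⟩), (73, ⟨3, 3⟩), (91, ⟨2, 4⟩), (30, ⟨0, 1⟩), (49, ⟨3, 3⟩), (39, ⟨1, 0⟩), (79, ⟨1, 3⟩), (23, ⟨4, 0⟩), (0, ⟨4, 4⟩), (51, ⟨2, 2⟩), (99, ⟨4, 0⟩), (11, ⟨1, 2⟩), (16, ⟨3, 4⟩), (86, ⟨0, 1⟩), (18, ⟨4, 1⟩), (66, ⟨0, 1⟩), (42, ⟨1, 2⟩), (47, ⟨0, 4⟩), (74, ⟨4, 0⟩), (75, ⟨0, 2⟩), (60, ⟨2, 2⟩), (17, ⟨0, 4⟩), (44, ⟨3, 1⟩), (38, ⟨1, 3⟩), (64, ⟨3, 3⟩), (41, ⟨0, 2⟩), (65, ⟨2, 4⟩), (81, ⟨4, 4⟩), (14, ⟨4, 1⟩), (26, ⟨1, 3⟩), (93, ⟨1, 0⟩), (43, ⟨3, 0⟩), (90, ⟨3, 3⟩), (55, ⟨4, 0⟩), (27, ⟨3, 2⟩), (85,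 ⟨4, 2⟩), (88, ⟨4, 3⟩), (5, ⟨3, 3⟩), (48, ⟨3, 1⟩), (59, ⟨0, 3⟩), (104, ⟨2, 3⟩), (12, ⟨2, 0⟩), (22, ⟨4, 2⟩), (84, ⟨4, 4⟩), (46, ⟨1, 4⟩), (67, ⟨4, 3⟩), (7, ⟨2, 4⟩), (96, ⟨2, 0⟩), (24, ⟨0, 2⟩), (97, ⟨3, 4⟩), (20, ⟨1, 1⟩), (69, ⟨3, 1⟩), (68, ⟨3, 4⟩), (57, ⟨2, 1⟩), (4, ⟨2, 2⟩), (77, ⟨0, 1⟩), (98, ⟨3, 2⟩), (13, ⟨0, 4⟩), (31, ⟨2, 1⟩), (78, ⟨4, 3⟩), (8, ⟨1, 1⟩), (71, ⟨3, 3⟩), (58, ⟨4, 3⟩), (33, ⟨2, 0⟩), (21, ⟨2, 3⟩), (2, ⟨0, 4⟩), (102, ⟨3, 2⟩), (76, ⟨1, 4⟩)]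

/-- `M` maps every listed vector to a multiple of a listed vector. -/
def Pres (M : Matrix (Fin 3) (Fin 3) F25) : Prop :=
  ∀ v ∈ Yl, ∃ w ∈ Yl, ∃ c : F25, M *ᵥ v = c • w

/-- table certificate for `Pres M` (decidable; 105 matrix–vector products). -/
def PresT (M : Matrix (Fin 3) (Fin 3) F25) (t : List (ℕ × F25)) : Prop :=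
  ∀ i : Fin 105, (t.getD i (0, 0)).1 < 105 ∧
    M *ᵥ Yl.getD i 0 = (t.getD i (0, 0)).2 • Yl.getD (t.getD i (0, 0)).1 0

instance instDecPresT (M : Matrix (Fin 3) (Fin 3) F25) (t : List (ℕ × F25)) :
    Decidable (PresT M t) := by
  unfold PresT; infer_instance

end Cfsg.Agent.H77.Uf
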