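import Mathlib
import Cfsg.Agent.H67.UmDefs

set_option autoImplicit false

open Matrix Polynomial

namespace Cfsg.Agent.H77.Um

open Cfsg.Agent.H67.Um

universe u

theorem monic_natDegree_zero {F : Type u} [Field F] (R : F[X]) (hR : R.Monic)
    (h : R.natDegree = 0) : R = 1 := by
  exact Polynomial.eq_one_of_monic_natDegree_zero hR h

theorem X_pow_sub_one_dvd_mul {F : Type u} [Field F] (m j : ℕ) :
    (X ^ m - 1 : F[X]) ∣ X ^ (m * j) - 1 := by
  rw [pow_mul]
  exact sub_one_dvd_pow_sub_one (X ^ m) j

theorem pow_char_sub_one {F : Type u} [Field F] (p : ℕ) [Fact p.Prime] [CharP F p] (m t : ℕ) :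
    ((X ^ m - 1 : F[X])) ^ (p ^ t) = X ^ (m * p ^ t) - 1 := by
  rw [sub_pow_char_pow, one_pow, ← pow_mul]

theorem pow_char_sub_C {F : Type u} [Field F] (p : ℕ) [Fact p.Prime] [CharP F p] (m t : ℕ)
    (c : F) :
    ((X ^ m - C c : F[X])) ^ (p ^ t) = X ^ (m * p ^ t) - C (c ^ (p ^ t)) := by
  rw [sub_pow_char_pow, ← pow_mul, ← C_pow]

theorem ind : StInd.{u} := by
  intro hPeel F _ _ p f _ σ hp hf hcard hσ
  have : Fact p.Prime := ⟨hp⟩
  -- strong induction on the degree
  have key : ∀ n : ℕ, ∀ P : F[X], P.natDegree = n → P.Monic → P.coeff 0 ≠ 0 →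
      Associated P (Cfsg.Agent.H45.dualPoly σ P) →
      ∃ l : List (ℕ × ℕ), Parts l P.natDegree ∧
        (∀ L t, (∀ x ∈ l, Qn (p ^ f) x.1 ∣ L) → (∀ x ∈ l, x.2 ≤ p ^ t) →
          P ∣ X ^ (L * p ^ t) - 1) ∧
        (∀ a k t, l = [(a, k)] → k ≤ p ^ t →
          ∃ c : F, P ∣ X ^ (Qn (p ^ f) a / (p ^ f + 1) * p ^ t) - C c) := by
    intro n
    induction n using Nat.strong_induction_on with
    | _ n ih =>
      intro P hn hmon h0 hass
      by_cases hP1 : P = 1
      · subst hP1
        refine ⟨[], ⟨by simp, by simp⟩, ?_, ?_⟩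
        · intro L t _ _
          exact one_dvd _
        · intro a k t h
          simp at h
      · obtain ⟨G, R, a, k, ha, hk, hPGR, hcop, hGdeg, hRmon, hR0, hRass, hGdvd, c, hGc⟩ :=
          hPeel F (p ^ f) σ hcard hσ P hmon h0 hass hP1
        have hPne : P ≠ 0 := hmon.ne_zero
        have hGne : G ≠ 0 := by
          rintro rfl
          rw [zero_mul] at hPGR
          exact hPne hPGR
        have hRne : R ≠ 0 := hRmon.ne_zero
        have hdeg : P.natDegree = a * k + R.natDegree := by
          rw [hPGR, natDegree_mul hGne hRne, hGdeg]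
        have hak : 1 ≤ a * k := Nat.mul_pos ha hk
        have hlt : R.natDegree < n := by omega
        obtain ⟨l', hl'P, hl'D, hl'S⟩ := ih R.natDegree hlt R rfl hRmon hR0 hRass
        refine ⟨(a, k) :: l', ⟨?_, ?_⟩, ?_, ?_⟩
        · intro x hx
          rcases List.mem_cons.mp hx with rfl | hx
          · exact ⟨ha, hk⟩
          · exact hl'P.1 x hx
        · rw [List.map_cons, List.sum_cons, hl'P.2, hdeg]
        · intro L t hL ht
          have hQa : Qn (p ^ f) a ∣ L := hL (a, k) (List.mem_cons_self ..)
          have hkt : k ≤ p ^ t := ht (a, k) (List.mem_cons_self ..)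
          have hG : G ∣ X ^ (L * p ^ t) - 1 := by
            refine hGdvd.trans ((pow_dvd_pow _ hkt).trans ?_)
            rw [pow_char_sub_one p]
            obtain ⟨j, rfl⟩ := hQa
            rw [mul_right_comm]
            exact X_pow_sub_one_dvd_mul _ j
          have hR : R ∣ X ^ (L * p ^ t) - 1 :=
            hl'D L t (fun x hx => hL x (List.mem_cons_of_mem _ hx))
              (fun x hx => ht x (List.mem_cons_of_mem _ hx))
          rw [hPGR]
          exact hcop.mul_dvd hG hR
        · intro a' k' t hl hkt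
          have h1 : (a, k) = (a', k') ∧ l' = [] := by
            simpa using hl
          obtain ⟨hak', hl'nil⟩ := h1
          have ha' : a = a' := congrArg Prod.fst hak'
          have hk' : k = k' := congrArg Prod.snd hak'
          subst ha' hk'
          have hR1 : R = 1 := by
            apply monic_natDegree_zero R hRmon
            have := hl'P.2
            rw [hl'nil] at this
            simpa using this.symm
          refine ⟨c ^ (p ^ t), ?_⟩
          rw [hPGR, hR1, mul_one]
          refine hGc.trans ((pow_dvd_pow _ hkt).trans ?_)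
          rw [pow_char_sub_C p]
  intro P hmon h0 hass
  exact key P.natDegree P rfl hmon h0 hass

example : Cfsg.Agent.H67.Um.StInd.{u} := ind

end Cfsg.Agent.H77.Um

#print axioms Cfsg.Agent.H77.Um.ind
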